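import Cfsg.Agent.H75.SmallIndex.Essential
import Cfsg.Agent.H85.Focal

/-!
Automorphisms of `S` and normality when the centre has index `p²`.
-/

set_option autoImplicit false
set_option linter.style.haveILetI false

open Cfsg Cfsg.FusionSystem
open scoped commutatorElement

namespace H75.SmallIndex

variable {Ω : Type*} [Group Ω] {S : Subgroup Ω} [Finite S] {p : ℕ} [hp : Fact p.Prime]
  {F : FusionSystem S}

omit hp in
theorem autInducedBy_self_eq : autInducedBy S S = Cfsg.Inn ↥S := by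
  refine le_antisymm (fun a ha => ?_) (H85.inn_le_autInducedBy le_rfl)
  obtain ⟨g, hg, hga⟩ := H85.mem_autInducedBy.1 ha
  exact ⟨⟨g, hg⟩, MulEquiv.ext fun x => Subtype.ext (hga x).symm⟩

/-- A power of order prime to `p` of any automorphism of `S` in the system is inner. -/
theorem exists_pow_inner (hS : IsPGroup p S) (hF : F.IsSaturated p) {β : MulAut S}
    (hβ : β ∈ F.autGroup S) : ∃ m : ℕ, m.Coprime p ∧ β ^ m ∈ autInducedBy S S := by
  haveI : Finite (MulAut S) := Finite.of_injective _ DFunLike.coe_injective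
  obtain ⟨k, m, hm, hkm⟩ := Nat.exists_eq_pow_mul_and_not_dvd (orderOf_pos β).ne' p hp.out.ne_one
  refine ⟨m, ((hp.out.coprime_iff_not_dvd).2 hm).symm, ?_⟩
  haveI : (autInducedBy S S).Normal := by
    rw [autInducedBy_self_eq]
    refine ⟨?_⟩
    rintro _ ⟨g, rfl⟩ a
    exact ⟨a g, MulEquiv.ext fun x => by simp⟩
  have hL : IsPGroup p (Subgroup.zpowers (β ^ m)) := by
    intro x
    obtain ⟨i, hi⟩ := Subgroup.mem_zpowers_iff.1 x.2
    refine ⟨k, Subtype.ext ?_⟩
    rw [SubgroupClass.coe_pow, ← hi, ← zpow_natCast ((β ^ m) ^ i), ← zpow_mul, mul_comm i, zpow_mul,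
      zpow_natCast, ← pow_mul, mul_comm m, ← hkm, pow_orderOf_eq_one, one_zpow]
    rfl
  have hsup : IsPGroup p ↥(Subgroup.zpowers (β ^ m) ⊔ autInducedBy S S) :=
    hL.to_sup_of_normal_right (H85.autInducedBy_isPGroup hS S)
  have h1 := ((H85.isFullyAutomized_iff hS).1
    (H85.fullyAutomized_of_fullyNormalized hS hF (H85.fullyNormalized_top F))).2 _
    (sup_le (Subgroup.zpowers_le.2 ((F.autGroup S).pow_mem hβ m))
      (H85.autInducedBy_le_autGroup F le_rfl)) hsup le_sup_right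
  exact h1.le (Subgroup.mem_sup_left (Subgroup.mem_zpowers _))

theorem mem_of_coprime_pow {G : Type*} [Group G] {H : Subgroup G} {b : G} {m n : ℕ}
    (hmn : m.Coprime n) (hm : b ^ m ∈ H) (hn : b ^ n ∈ H) : b ∈ H := by
  have h1 : b = (b ^ m) ^ (Nat.gcdA m n) * (b ^ n) ^ (Nat.gcdB m n) := by
    rw [← zpow_natCast, ← zpow_natCast, ← zpow_mul, ← zpow_mul, ← zpow_add, ← Nat.gcd_eq_gcd_ab,
      hmn, Nat.cast_one, zpow_one]
  rw [h1]
  exact mul_mem (zpow_mem hm _) (zpow_mem hn _)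

omit [Finite S] hp in
theorem induced_fix {a : MulAut S} (ha : a ∈ autInducedBy S S) {x : S} (hx : (x : Ω) ∈ zc S) :
    a x = x := by
  obtain ⟨g, hg, hga⟩ := H85.mem_autInducedBy.1 ha
  refine Subtype.ext ?_
  rw [hga, (mem_zc.1 hx).2 g hg, mul_inv_cancel_right]

omit [Finite S] hp in
theorem induced_mod {a : MulAut S} (ha : a ∈ autInducedBy S S) (x : S) :
    (x : Ω)⁻¹ * ((a x : S) : Ω) ∈ ⁅S, S⁆ := by
  obtain ⟨g, hg, hga⟩ := H85.mem_autInducedBy.1 ha
  have h1 := Subgroup.commutator_mem_commutator (S.inv_mem x.2) hg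
  rw [hga]
  simpa [commutatorElement_def, mul_assoc] using h1

/-- Fixed points in the centre of an automorphism with fixed `p`-th power. -/
theorem fix_of_pow (hS : IsPGroup p S) (hF : F.IsSaturated p) {β : MulAut S}
    (hβ : β ∈ F.autGroup S) {x : S} (hx : (x : Ω) ∈ zc S) (h : (β ^ p) x = x) : β x = x := by
  obtain ⟨m, hm, hmI⟩ := exists_pow_inner hS hF hβ
  exact mem_of_coprime_pow (H := MulAction.stabilizer (MulAut S) x) hm (induced_fix hmI hx) h

omit [Finite S] hp in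
theorem map_mem_zc (β : MulAut S) {x : S} (hx : (x : Ω) ∈ zc S) : ((β x : S) : Ω) ∈ zc S := by
  refine mem_zc.2 ⟨(β x).2, fun y hy => ?_⟩
  obtain ⟨w, hw⟩ := β.surjective ⟨y, hy⟩
  have h1 : w * x = x * w := Subtype.ext ((mem_zc.1 hx).2 w w.2)
  have h2 := congrArg β h1
  rw [map_mul, map_mul, hw] at h2
  exact congrArg Subtype.val h2

omit [Finite S] hp in
theorem map_mem_comm (β : MulAut S) {x : S} (hx : (x : Ω) ∈ ⁅S, S⁆) :
    ((β x : S) : Ω) ∈ ⁅S, S⁆ := by
  have hmap : (commutator ↥S).map S.subtype = ⁅S, S⁆ := Subgroup.map_subtype_commutator S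
  rw [← hmap] at hx ⊢
  obtain ⟨y, hy, hyx⟩ := hx
  obtain rfl : y = x := Subtype.ext hyx
  refine ⟨β y, ?_, rfl⟩
  exact (Subgroup.characteristic_iff_map_le.1 inferInstance β) ⟨y, hy, rfl⟩

/-- A nontrivial subgroup invariant in `S` and all essential subgroups contradicts `core = 1`. -/
theorem false_of_invariant (hS : IsPGroup p S) (hF : F.IsSaturated p) (hcore : F.core = ⊥)
    {Q : Subgroup Ω} (hQS : Q ≤ S) (hQ : Q ≠ ⊥)
    (htop : ∀ β ∈ F.autGroup S, ∀ x : S, (x : Ω) ∈ Q → ((β x : S) : Ω) ∈ Q)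
    (hess : ∀ E, F.IsEssential p E → Q ≤ E ∧
      ∀ α ∈ F.autGroup E, ∀ x : E, (x : Ω) ∈ Q → ((α x : E) : Ω) ∈ Q) : False := by
  refine hQ (eq_bot_iff.2 (hcore ▸ le_sSup (?_ : F.IsNormal Q)))
  refine H85.isNormal_of_essential hS hF fun P hP => ?_
  rcases hP with rfl | hP
  · exact ⟨hQS, fun α hα => H85.map_eq_of_mapsTo fun x hx => htop α hα x hx⟩
  · haveI : Finite P := H85.finite_of_le hP.1.1
    exact ⟨(hess P hP).1, fun α hα => H85.map_eq_of_mapsTo fun x hx => (hess P hP).2 α hα x hx⟩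

/-- An automorphism of `S` stabilizing an essential subgroup restricts to it. -/
theorem restrict_aut {E : Subgroup Ω} (hE : E ≤ S) {β : MulAut S} (hβ : β ∈ F.autGroup S)
    (hstab : ∀ x : S, (x : Ω) ∈ E → ((β x : S) : Ω) ∈ E) :
    ∃ α ∈ F.autGroup E, ∀ x : E, ((α x : E) : Ω) = ((β (Subgroup.inclusion hE x) : S) : Ω) := by
  haveI : Finite E := H85.finite_of_le hE
  have hφ := H85.restrict ((H85.mem_autGroup le_rfl).1 hβ) hE
  have hr : ((S.subtype.comp β.toMonoidHom).comp (Subgroup.inclusion hE)).range = E := by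
    refine Subgroup.eq_of_le_of_card_ge ?_ (le_of_eq (Nat.card_congr
      (MonoidHom.ofInjective (F.injective_of_mem hφ)).toEquiv))
    rintro _ ⟨x, rfl⟩
    exact hstab _ x.2
  exact ⟨H85.isoOf _ hφ hr, (H85.mem_autGroup hE).2 (H85.isFIso_isoOf _ hφ hr),
    fun x => by rw [H85.isoOf_apply]; rfl⟩

theorem eq_of_rel_two {A : Type*} [Group A] [Finite A] (hA : Nat.card A = 2) {x y : A}
    (hx : x ≠ 1) (hy : y ≠ 1) : x = y := by
  obtain ⟨z, -, hz⟩ := (Nat.card_eq_two_iff' (1 : A)).1 hA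
  exact (hz x hx).trans (hz y hy).symm

/-- No abelian group in this situation. -/
theorem smallCenter_of_hyp (hS : IsPGroup p S) (hF : F.IsSaturated p) (hcore : F.core = ⊥)
    (hS1 : S ≠ ⊥) (hidx : (Subgroup.center ↥S).index ≤ p ^ 2) : SmallCenter p S := by
  refine smallCenter_of_index S hS (fun hc => ?_) hidx
  refine false_of_invariant hS hF hcore le_rfl hS1 (fun β _ x _ => (β x).2) fun E hE => ?_
  exfalso
  refine H89.essential_ne_top hS hF hE (le_antisymm hE.1.1 fun x hx => ?_)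
  exact H87.essential_centric hE hx fun e he =>
    (H11.comm_of_mulCommutative hc (hE.1.1 he) hx).eq

theorem exists_essential (h : SmallCenter p S) (hF : F.IsSaturated p) (hcore : F.core = ⊥)
    (hS1 : S ≠ ⊥) : ∃ E, F.IsEssential p E := by
  by_contra hne
  push Not at hne
  exact false_of_invariant h.pgroup hF hcore le_rfl hS1 (fun β _ x _ => (β x).2)
    fun E hE => absurd hE (hne E)

omit hp in
theorem card_zc_mul (h : SmallCenter p S) : Nat.card S = Nat.card ↥(zc S) * p ^ 2 := by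
  rw [← h.idx, Subgroup.relIndex, ← Subgroup.card_mul_index ((zc S).subgroupOf S),
    Nat.card_congr (Subgroup.subgroupOfEquivOfLe (zc_le S)).toEquiv]

theorem eq_sup_of_index {E : Subgroup Ω} (hE : E ≤ S) (hi : E.relIndex S = p) {x : Ω} (hxS : x ∈ S)
    (hx : x ∉ E) : S = E ⊔ Subgroup.zpowers x := by
  have hle : E ⊔ Subgroup.zpowers x ≤ S := sup_le hE (Subgroup.zpowers_le.2 hxS)
  refine le_antisymm (relIndex_eq_one_iff.1 ?_) hle
  have hmul := Subgroup.relIndex_mul_relIndex E (E ⊔ Subgroup.zpowers x) S le_sup_left hle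
  rw [hi] at hmul
  refine ((Nat.dvd_prime hp.out).1 ⟨_, (mul_comm (E.relIndex _) _ ▸ hmul).symm⟩).resolve_right
    fun h1 => hx ?_
  rw [h1] at hmul
  have h2 : E.relIndex (E ⊔ Subgroup.zpowers x) = 1 := (mul_eq_right₀ hp.out.ne_zero).1 hmul
  exact relIndex_eq_one_iff.1 h2 (Subgroup.mem_sup_right (Subgroup.mem_zpowers x))

theorem exists_zc_mul {r x : Ω} (hr : r ∈ S) (hx : x ∈ zc S ⊔ Subgroup.zpowers r) :
    ∃ z ∈ zc S, ∃ n : ℤ, x = z * r ^ n := by
  have hn : Subgroup.zpowers r ≤ Subgroup.normalizer (zc S : Set Ω) := by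
    rw [Subgroup.zpowers_le]
    haveI : Finite ↥(zc S) := H85.finite_of_le (zc_le S)
    refine H85.mem_normalizer_of_conj fun z hz => ?_
    rw [(mem_zc.1 hz).2 r hr, mul_inv_cancel_right]
    exact hz
  rw [← SetLike.mem_coe, Subgroup.coe_mul_of_right_le_normalizer_left _ _ hn] at hx
  obtain ⟨z, hz, y, hy, rfl⟩ := hx
  obtain ⟨n, rfl⟩ := Subgroup.mem_zpowers_iff.1 hy
  exact ⟨z, hz, n, rfl⟩

end H75.SmallIndex
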