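import Mathlib
import Cfsg.Agent.H79.CubeExtraspecial

/-!
Finite `p`-groups whose centre has index at most `p²`.
-/

set_option autoImplicit false
set_option linter.style.haveILetI false

namespace H75.SmallIndex

open Subgroup
open scoped commutatorElement

variable {p : ℕ} [hp : Fact p.Prime]

theorem center_facts {X : Type*} [Group X] [Finite X] (hX : IsPGroup p X)
    (hnc : ¬ ∀ x y : X, x * y = y * x) (hidx : (center X).index ≤ p ^ 2) :
    (center X).index = p ^ 2 ∧ commutator X ≤ center X ∧ Nat.card (commutator X) = p ∧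
      ∀ x : X, x ^ p ∈ center X := by
  set Z := center X with hZ
  obtain ⟨k, hk⟩ := IsPGroup.iff_card.1 (hX.to_quotient Z)
  rw [← index_eq_card] at hk
  have hk2 : k ≤ 2 := (Nat.pow_le_pow_iff_right hp.out.one_lt).1 (hk ▸ hidx)
  have hk' : k = 2 := by
    by_contra hne
    apply hnc
    refine H79.commute_of_cyclic_center_quotient ?_
    have : k = 0 ∨ k = 1 := by omega
    rcases this with rfl | rfl
    · rw [pow_zero, index_eq_card] at hk
      haveI : Subsingleton (X ⧸ Z) := (Nat.card_eq_one_iff_unique.1 hk).1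
      exact isCyclic_of_subsingleton
    · rw [pow_one, index_eq_card] at hk
      exact isCyclic_of_prime_card hk
  subst hk'
  have hq : Nat.card (X ⧸ Z) = p ^ 2 := by rw [← index_eq_card, hk]
  have hcomm : ∀ u v : X ⧸ Z, u * v = v * u := IsPGroup.commutative_of_card_eq_prime_sq hq
  have hpow : ∀ x : X, x ^ p ∈ Z := by
    intro x
    rw [← QuotientGroup.eq_one_iff, QuotientGroup.mk_pow]
    obtain ⟨j, hj, hjo⟩ := (Nat.dvd_prime_pow hp.out).1
      (hq ▸ orderOf_dvd_natCard (QuotientGroup.mk x : X ⧸ Z))
    have hj2 : j ≠ 2 := fun h => hnc (H79.commute_of_cyclic_center_quotient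
      (isCyclic_of_orderOf_eq_card (QuotientGroup.mk x : X ⧸ Z) (by rw [hjo, h, hq])))
    refine orderOf_dvd_iff_pow_eq_one.1 (hjo ▸ ?_)
    exact (pow_dvd_pow p (show j ≤ 1 by omega)).trans (by rw [pow_one])
  have hle : commutator X ≤ Z := by
    rw [_root_.commutator_def, commutator_le]
    intro u _ v _
    rw [← QuotientGroup.eq_one_iff, ← QuotientGroup.mk'_apply, map_commutatorElement,
      commutatorElement_eq_one_iff_mul_comm]
    exact hcomm _ _
  push Not at hnc
  obtain ⟨a, b, hab⟩ := hnc
  set c := ⁅a, b⁆ with hc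
  have hcZ : c ∈ Z := hle (commutator_mem_commutator (mem_top a) (mem_top b))
  have hc1 : c ≠ 1 := fun h => hab (commutatorElement_eq_one_iff_mul_comm.1 h)
  have hcp : c ^ p = 1 := by
    have h1 : ∀ n : ℕ, ⁅a ^ n, b⁆ = c ^ n := by
      intro n
      induction n with
      | zero => simp [commutatorElement_def]
      | succ n ih =>
        have e : ⁅a ^ (n + 1), b⁆ = a ^ n * c * (a ^ n)⁻¹ * ⁅a ^ n, b⁆ := by
          rw [hc, pow_succ, commutatorElement_def, commutatorElement_def, commutatorElement_def]
          group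
        rw [e, ih, mem_center_iff.1 hcZ (a ^ n), mul_inv_cancel_right, pow_succ']
    rw [← h1, commutatorElement_eq_one_iff_mul_comm]
    exact (mem_center_iff.1 (hpow a) b).symm
  have hcn : (zpowers c).Normal := ⟨fun n hn g => by
    rw [mem_center_iff.1 (zpowers_le.2 hcZ hn) g, mul_inv_cancel_right]; exact hn⟩
  set H := Z ⊔ zpowers a with hH
  have hHc : H ≤ centralizer ({a} : Set X) := sup_le
    (fun z hz => mem_centralizer_singleton_iff.2 (mem_center_iff.1 hz a).symm)
    (zpowers_le.2 (mem_centralizer_singleton_iff.2 rfl))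
  have hbH : b ∉ H := fun h => hab (mem_centralizer_singleton_iff.1 (hHc h)).symm
  have hHi : H.index = p := by
    obtain ⟨i, hi, hi'⟩ := (Nat.dvd_prime_pow hp.out).1 (hk ▸ index_dvd_of_le (le_sup_left : Z ≤ H))
    have h0 : i ≠ 0 := fun h => hbH (by
      rw [index_eq_one.1 (by rw [hi', h, pow_zero] : H.index = 1)]; exact mem_top b)
    have h2 : i ≠ 2 := fun h => by
      have heq : Z = H := eq_of_le_of_card_ge le_sup_left (le_of_eq (by
        have e1 := Z.card_mul_index
        have e2 := H.card_mul_index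
        rw [hk] at e1
        rw [hi', h] at e2
        exact Nat.eq_of_mul_eq_mul_right (pow_pos hp.out.pos 2) (e2.trans e1.symm)))
      exact hab (mem_center_iff.1 (heq ▸ mem_sup_right (mem_zpowers a) : a ∈ Z) b).symm
    rw [hi', show i = 1 by omega, pow_one]
  have htop : H ⊔ zpowers b = ⊤ := by
    rw [← index_eq_one]
    refine ((Nat.dvd_prime hp.out).1 (hHi ▸ index_dvd_of_le le_sup_left)).resolve_right fun h => ?_
    have heq : H = H ⊔ zpowers b := eq_of_le_of_card_ge le_sup_left (le_of_eq (by
      have e1 := H.card_mul_index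
      have e2 := (H ⊔ zpowers b).card_mul_index
      rw [hHi] at e1
      rw [h] at e2
      exact Nat.eq_of_mul_eq_mul_right hp.out.pos (e2.trans e1.symm)))
    exact hbH (heq ▸ mem_sup_right (mem_zpowers b))
  have hcR : commutator X ≤ zpowers c := by
    set q := QuotientGroup.mk' (zpowers c)
    have hab' : q a * q b = q b * q a := by
      rw [← commutatorElement_eq_one_iff_mul_comm, ← map_commutatorElement]
      exact (QuotientGroup.eq_one_iff _).2 (mem_zpowers c)
    have hall : ∀ x, q x ∈ center (X ⧸ zpowers c) := by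
      have h1 : ∀ y ∈ ({a, b} : Set X), ∀ x : X, q y * q x = q x * q y := by
        intro y hy
        have h2 : (⊤ : Subgroup X) ≤ (centralizer ({q y} : Set (X ⧸ zpowers c))).comap q := by
          rw [← htop]
          refine sup_le (sup_le (fun z hz => ?_) (zpowers_le.2 ?_)) (zpowers_le.2 ?_) <;>
            rw [mem_comap, mem_centralizer_singleton_iff]
          · rw [← map_mul, ← map_mul, mem_center_iff.1 hz y]
          · rcases hy with rfl | rfl
            · rfl
            · exact hab'
          · rcases hy with rfl | rfl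
            · exact hab'.symm
            · rfl
        intro x
        exact (mem_centralizer_singleton_iff.1 (h2 (mem_top x))).symm
      have h2 : (⊤ : Subgroup X) ≤ (center (X ⧸ zpowers c)).comap q := by
        rw [← htop]
        refine sup_le (sup_le (fun z hz => ?_) (zpowers_le.2 ?_)) (zpowers_le.2 ?_) <;>
          rw [mem_comap, mem_center_iff] <;>
          intro v <;> obtain ⟨v, rfl⟩ := QuotientGroup.mk'_surjective _ v
        · rw [← map_mul, ← map_mul, mem_center_iff.1 hz v]
        · exact (h1 a (Or.inl rfl) v).symm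
        · exact (h1 b (Or.inr rfl) v).symm
      exact fun x => h2 (mem_top x)
    rw [_root_.commutator_def, commutator_le]
    intro u _ v _
    rw [← QuotientGroup.eq_one_iff, ← QuotientGroup.mk'_apply, map_commutatorElement,
      commutatorElement_eq_one_iff_mul_comm]
    exact mem_center_iff.1 (hall v) _
  refine ⟨hk, hle, ?_, hpow⟩
  have heq : commutator X = zpowers c := le_antisymm hcR
    (zpowers_le.2 (commutator_mem_commutator (mem_top a) (mem_top b)))
  rw [heq, Nat.card_zpowers]
  exact orderOf_eq_prime hcp hc1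

variable {Ω : Type*} [Group Ω]

/-- The centre of `S`, as a subgroup of the ambient group. -/
def zc (S : Subgroup Ω) : Subgroup Ω := S ⊓ centralizer (S : Set Ω)

theorem mem_zc {S : Subgroup Ω} {x : Ω} : x ∈ zc S ↔ x ∈ S ∧ ∀ y ∈ S, y * x = x * y := by
  rw [zc, mem_inf, mem_centralizer_iff]; rfl

theorem zc_le (S : Subgroup Ω) : zc S ≤ S := inf_le_left

theorem zc_subgroupOf (S : Subgroup Ω) : (zc S).subgroupOf S = center ↥S := by
  ext x
  rw [mem_subgroupOf, mem_zc, mem_center_iff]
  exact ⟨fun h y => Subtype.ext (h.2 y y.2), fun h => ⟨x.2, fun y hy => congrArg Subtype.val (h ⟨y, hy⟩)⟩⟩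

/-- `S` is a nonabelian `p`-group whose centre has index `p²`. -/
structure SmallCenter (p : ℕ) (S : Subgroup Ω) : Prop where
  pgroup : IsPGroup p S
  idx : (zc S).relIndex S = p ^ 2
  comm_le : ⁅S, S⁆ ≤ zc S
  comm_card : Nat.card ↥⁅S, S⁆ = p
  pow_mem : ∀ x ∈ S, x ^ p ∈ zc S

theorem smallCenter_of_index (S : Subgroup Ω) [Finite S] (hS : IsPGroup p S)
    (hnc : ¬ IsMulCommutative ↥S) (hidx : (center ↥S).index ≤ p ^ 2) : SmallCenter p S := by
  obtain ⟨h1, h2, h3, h4⟩ := center_facts hS (fun h => hnc ⟨⟨h⟩⟩) hidx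
  have hmap : (commutator ↥S).map S.subtype = ⁅S, S⁆ := map_subtype_commutator S
  refine ⟨hS, by rw [relIndex, zc_subgroupOf, h1], ?_, ?_, fun x hx => ?_⟩
  · rw [← hmap, map_le_iff_le_comap]
    refine h2.trans ?_
    rw [← zc_subgroupOf]
    exact le_rfl
  · rw [← hmap, card_map_of_injective S.subtype_injective, h3]
  · have := h4 ⟨x, hx⟩
    rw [← zc_subgroupOf] at this
    exact this

end H75.SmallIndex
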