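import Mathlib

/-!
Automorphism groups of abelian groups generated by transvections with a Sylow subgroup of order `p`.
-/

set_option autoImplicit false

namespace H75.SmallIndex

open Subgroup

/-- A transvection `t` with centre `Z` and root `c` spanning a Sylow subgroup of `A`. -/
structure TrData {E : Type*} [Group E] (p : ℕ) (A : Subgroup (MulAut E)) (t : MulAut E)
    (Z : Subgroup E) (c : E) : Prop where
  comm : ∀ x y : E, x * y = y * x
  tA : t ∈ A
  fix : ∀ z ∈ Z, t z = z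
  mov : ∀ x, x ∉ Z → ∃ j : ℕ, t x = x * c ^ j ∧ c ^ j ≠ 1
  cZ : c ∈ Z
  cp : c ^ p = 1
  cne : c ≠ 1
  idx : Z.index = p
  sylow : ∀ L : Subgroup (MulAut E), L ≤ A → IsPGroup p L → t ∈ L → L ≤ zpowers t

variable {E : Type*} [Group E] {p : ℕ} [hp : Fact p.Prime] {A : Subgroup (MulAut E)}
  {t : MulAut E} {Z : Subgroup E} {c : E}

theorem exists_pow_gen {G : Type*} [Group G] {x : G} (hx : x ^ p = 1) {j : ℕ} (hj : x ^ j ≠ 1) :
    ∃ k : ℕ, (x ^ j) ^ k = x := by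
  refine exists_pow_eq_self_of_coprime ?_
  have hd : orderOf x ∣ p := orderOf_dvd_of_pow_eq_one hx
  rcases (Nat.dvd_prime hp.out).1 hd with h | h
  · rw [h]; exact Nat.coprime_one_right j
  · rw [h]
    refine (hp.out.coprime_iff_not_dvd.2 fun hdvd => hj ?_).symm
    obtain ⟨k, rfl⟩ := hdvd
    rw [pow_mul, hx, one_pow]

theorem exists_mul_pow (hcomm : ∀ x y : E, x * y = y * x) {H : Subgroup E} (hidx : H.index = p)
    {a : E} (ha : a ∉ H) (x : E) : ∃ h ∈ H, ∃ j : ℕ, x = h * a ^ j := by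
  haveI : H.Normal := ⟨fun n hn g => by rw [hcomm g n, mul_inv_cancel_right]; exact hn⟩
  have hcard : Nat.card (E ⧸ H) = p := by rw [← index_eq_card, hidx]
  haveI : Finite (E ⧸ H) := Nat.finite_of_card_ne_zero (hcard ▸ hp.out.ne_zero)
  have hm : (QuotientGroup.mk a : E ⧸ H) ≠ 1 := fun h => ha ((QuotientGroup.eq_one_iff a).1 h)
  obtain ⟨j, hj⟩ := mem_zpowers_iff.1
    (mem_zpowers_of_prime_card hcard hm (g' := (QuotientGroup.mk x : E ⧸ H)))
  obtain ⟨n, hn⟩ := (mem_powers_iff_mem_zpowers (x := (QuotientGroup.mk a : E ⧸ H))).2 ⟨j, hj⟩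
  refine ⟨x * (a ^ n)⁻¹, ?_, n, by group⟩
  rw [← QuotientGroup.eq_one_iff, QuotientGroup.mk_mul, QuotientGroup.mk_inv, QuotientGroup.mk_pow]
  exact mul_inv_eq_one.2 hn.symm

theorem pow_apply_of_fix {a : MulAut E} {x u : E} (hx : a x = x * u) (hu : a u = u) :
    ∀ n : ℕ, (a ^ n) x = x * u ^ n := by
  intro n
  induction n with
  | zero => simp
  | succ n ih =>
    rw [pow_succ', MulAut.mul_apply, ih, map_mul, map_pow, hx, hu, pow_succ' u, mul_assoc]

theorem pow_fix {a : MulAut E} {x : E} (hx : a x = x) (n : ℕ) : (a ^ n) x = x := by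
  simpa using pow_apply_of_fix (u := 1) (by rw [mul_one]; exact hx) (map_one a) n

theorem TrData.tc (h : TrData p A t Z c) : t c = c := h.fix c h.cZ

theorem TrData.tmov (h : TrData p A t Z c) (x : E) : ∃ j : ℕ, t x = x * c ^ j := by
  by_cases hx : x ∈ Z
  · exact ⟨0, by rw [h.fix x hx, pow_zero, mul_one]⟩
  · obtain ⟨j, hj, -⟩ := h.mov x hx; exact ⟨j, hj⟩

theorem TrData.fix_mem (h : TrData p A t Z c) {x : E} (hx : t x = x) : x ∈ Z := by
  by_contra hn
  obtain ⟨j, hj, hj'⟩ := h.mov x hn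
  rw [hx] at hj
  exact hj' (mul_eq_left.1 hj.symm)

theorem TrData.conj_apply (k : MulAut E) (x : E) : (k * t * k⁻¹) (k x) = k (t x) := by
  simp [MulAut.mul_apply]

/-- If `k` carries the root into the centre, then `k` normalizes `⟨t⟩`. -/
theorem TrData.conj_mem (h : TrData p A t Z c) {k : MulAut E} (hk : k ∈ A) (hkc : k c ∈ Z) :
    k * t * k⁻¹ ∈ zpowers t := by
  letI : CommGroup E := { ‹Group E› with mul_comm := h.comm }
  set r := k c with hr
  set d := k * t * k⁻¹ with hd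
  have hrp : r ^ p = 1 := by rw [hr, ← map_pow, h.cp, map_one]
  let S : Submonoid (MulAut E) :=
    { carrier := {a | a r = r ∧ (∃ i : ℕ, a c = c * r ^ i) ∧
        ∀ x, ∃ i l : ℕ, a x = x * (c ^ i * r ^ l)}
      one_mem' := ⟨rfl, ⟨0, by simp⟩, fun x => ⟨0, 0, by simp⟩⟩
      mul_mem' := by
        rintro a b ⟨har, ⟨ma, hac⟩, hax⟩ ⟨hbr, ⟨mb, hbc⟩, hbx⟩
        refine ⟨by rw [MulAut.mul_apply, hbr, har], ⟨ma + mb, ?_⟩, fun x => ?_⟩
        · rw [MulAut.mul_apply, hbc, map_mul, map_pow, har, hac, pow_add, mul_assoc]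
        · obtain ⟨i, l, hb⟩ := hbx x
          obtain ⟨i', l', ha⟩ := hax x
          refine ⟨i' + i, l' + (ma * i + l), ?_⟩
          rw [MulAut.mul_apply, hb, map_mul, map_mul, map_pow, map_pow, har, hac, ha, mul_pow,
            ← pow_mul, pow_add, pow_add, pow_add]
          ac_rfl }
  have hpow : ∀ a ∈ S, a ^ (p ^ 2) = 1 := by
    rintro a ⟨har, ⟨m, hac⟩, hax⟩
    have hbr : (a ^ p) r = r := pow_fix har p
    have hbc : (a ^ p) c = c := by
      rw [pow_apply_of_fix hac (by rw [map_pow, har]) p, ← pow_mul, mul_comm m p, pow_mul, hrp,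
        one_pow, mul_one]
    refine MulEquiv.ext fun x => ?_
    rw [sq, pow_mul, MulAut.one_apply]
    have hax' : ∃ i l : ℕ, (a ^ p) x = x * (c ^ i * r ^ l) := by
      have : a ^ p ∈ S := pow_mem (show a ∈ S from ⟨har, ⟨m, hac⟩, hax⟩) p
      exact this.2.2 x
    obtain ⟨i, l, hx⟩ := hax'
    rw [pow_apply_of_fix hx (by rw [map_mul, map_pow, map_pow, hbc, hbr]) p, mul_pow, ← pow_mul,
      ← pow_mul, mul_comm i p, mul_comm l p, pow_mul, pow_mul, h.cp, hrp, one_pow, one_pow,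
      mul_one, mul_one]
  let K : Subgroup (MulAut E) :=
    { S with
      inv_mem' := fun {a} ha => by
        have h1 : a⁻¹ = a ^ (p ^ 2 - 1) := by
          refine inv_eq_of_mul_eq_one_right ?_
          rw [← pow_succ', Nat.sub_add_cancel (Nat.one_le_pow _ _ hp.out.pos), hpow a ha]
        exact h1 ▸ pow_mem (show a ∈ S from ha) _ }
  have hKp : IsPGroup p K := fun a => ⟨2, Subtype.ext (by
    rw [SubmonoidClass.coe_pow]; exact hpow a a.2)⟩
  have htK : t ∈ K := ⟨h.fix r hkc, ⟨0, by rw [h.tc, pow_zero, mul_one]⟩, fun x => by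
    obtain ⟨j, hj⟩ := h.tmov x
    exact ⟨j, 0, by rw [hj, pow_zero, mul_one]⟩⟩
  have hdx : ∀ x, ∃ l : ℕ, d x = x * r ^ l := fun x => by
    obtain ⟨j, hj⟩ := h.tmov (k⁻¹ x)
    refine ⟨j, ?_⟩
    have h1 := TrData.conj_apply (t := t) k (k⁻¹ x)
    rw [MulAut.apply_inv_self, hj, map_mul, map_pow, MulAut.apply_inv_self] at h1
    exact h1
  have hdK : d ∈ K := ⟨by rw [hd, hr, TrData.conj_apply, h.tc],
    (hdx c).imp fun _ h => h, fun x => by
      obtain ⟨l, hl⟩ := hdx x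
      exact ⟨0, l, by rw [hl, pow_zero, one_mul]⟩⟩
  exact h.sylow (K ⊓ A) inf_le_right (hKp.to_le inf_le_left) ⟨htK, h.tA⟩
    ⟨hdK, A.mul_mem (A.mul_mem hk h.tA) (A.inv_mem hk)⟩

theorem TrData.map_eq [Finite E] (h : TrData p A t Z c) {k : MulAut E} (hk : k ∈ A)
    (hkc : k c ∈ Z) : Z.map k.toMonoidHom = Z := by
  obtain ⟨i, hi⟩ := mem_zpowers_iff.1 (h.conj_mem hk hkc)
  have hfix : ∀ z ∈ Z, (t ^ i) z = z := fun z hz => by
    have h1 : t ∈ MulAction.stabilizer (MulAut E) z := h.fix z hz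
    exact zpow_mem h1 i
  refine (eq_of_le_of_card_ge (fun z hz => ?_)
    (card_map_of_injective (f := k.toMonoidHom) k.injective).le).symm
  refine ⟨k⁻¹ z, h.fix_mem (k.injective ?_), MulAut.apply_inv_self E k z⟩
  rw [← TrData.conj_apply (t := t) k (k⁻¹ z), MulAut.apply_inv_self, ← hi, hfix z hz]

theorem TrData.root_eq (h : TrData p A t Z c) {k : MulAut E} (hk : k ∈ A) (hkc : k c ∈ Z) :
    k c ∈ zpowers c := by
  obtain ⟨i, hi⟩ := mem_zpowers_iff.1 (h.conj_mem hk hkc)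
  obtain ⟨x, hx⟩ : ∃ x, x ∉ Z := by
    by_contra hne
    push Not at hne
    exact hp.out.one_lt.ne (h.idx ▸ (index_eq_one.2 (eq_top_iff.2 fun x _ => hne x)).symm)
  obtain ⟨j, hj, hj'⟩ := h.mov x hx
  have key : ∀ (y : E) (n : ℤ), y⁻¹ * (t ^ n) y ∈ zpowers c := by
    intro y n
    induction n using Int.induction_on with
    | zero => simp
    | succ n ih =>
      obtain ⟨a, ha⟩ := h.tmov ((t ^ (n : ℤ)) y)
      rw [add_comm (n : ℤ) 1, zpow_add, zpow_one, MulAut.mul_apply, ha, ← mul_assoc]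
      exact mul_mem ih (pow_mem (mem_zpowers c) a)
    | pred n ih =>
      obtain ⟨a, ha⟩ := h.tmov ((t ^ (-(n : ℤ) - 1)) y)
      rw [← MulAut.mul_apply, ← zpow_one_add, show 1 + (-(n : ℤ) - 1) = -(n : ℤ) by ring] at ha
      rw [ha, ← mul_assoc] at ih
      exact (Subgroup.mul_mem_cancel_right _ (pow_mem (mem_zpowers c) a)).1 ih
  have h1 := key (k x) i
  rw [hi, TrData.conj_apply, hj, map_mul, map_pow, inv_mul_cancel_left] at h1
  obtain ⟨m, hm⟩ := exists_pow_gen h.cp hj'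
  have h2 : (k c ^ j) ^ m = k c := by rw [← map_pow, ← map_pow, hm]
  rw [← h2]
  exact pow_mem h1 m

theorem TrData.notMem_map [Finite E] (h : TrData p A t Z c) {g : MulAut E} (hg : g ∈ A)
    (hgc : g c ∉ Z) : c ∉ Z.map g.toMonoidHom := by
  rintro ⟨x, hx, hxc⟩
  have h1 : (g⁻¹ : MulAut E) c ∈ Z := by
    rw [show c = g x from hxc.symm, MulAut.inv_apply_self]; exact hx
  have h2 := h.map_eq (A.inv_mem hg) h1
  obtain ⟨y, hy, hyc⟩ := h2.ge h.cZ
  have h3 : y = g c := by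
    rw [show c = g⁻¹ y from hyc.symm, MulAut.apply_inv_self]
  exact hgc (h3 ▸ hy)

theorem TrData.split_center [Finite E] (h : TrData p A t Z c) {g : MulAut E} (hg : g ∈ A)
    (hgc : g c ∉ Z) {z : E} (hz : z ∈ Z) :
    ∃ y ∈ Z ⊓ Z.map g.toMonoidHom, ∃ i : ℕ, z = y * c ^ i := by
  have hidx : (Z.map g.toMonoidHom).index = p := by
    rw [index_map_of_bijective (f := g.toMonoidHom) g.bijective, h.idx]
  obtain ⟨y, hy, i, hi⟩ := exists_mul_pow h.comm hidx (h.notMem_map hg hgc) z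
  refine ⟨y, ⟨?_, hy⟩, i, hi⟩
  exact (Z.mul_mem_cancel_right (pow_mem h.cZ i)).1 (hi ▸ hz)

theorem TrData.split [Finite E] (h : TrData p A t Z c) {g : MulAut E} (hg : g ∈ A)
    (hgc : g c ∉ Z) (x : E) :
    ∃ y ∈ Z ⊓ Z.map g.toMonoidHom, ∃ i l : ℕ, x = y * c ^ i * g c ^ l := by
  obtain ⟨z, hz, l, hl⟩ := exists_mul_pow h.comm h.idx hgc x
  obtain ⟨y, hy, i, hi⟩ := h.split_center hg hgc hz
  exact ⟨y, hy, i, l, by rw [hl, hi]⟩

/-- All centres contain the common part; all roots lie in the common plane. -/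
theorem TrData.common [Finite E] (h : TrData p A t Z c) {g : MulAut E} (hg : g ∈ A)
    (hgc : g c ∉ Z) {a : MulAut E} (ha : a ∈ A) :
    Z ⊓ Z.map g.toMonoidHom ≤ Z.map a.toMonoidHom ∧ a c ∈ closure ({c, g c} : Set E) := by
  have hcK : zpowers c ≤ closure ({c, g c} : Set E) :=
    zpowers_le.2 (Subgroup.subset_closure (Or.inl rfl))
  by_cases hca : (a⁻¹ : MulAut E) c ∈ Z
  · have h1 := h.map_eq (A.inv_mem ha) hca
    have h2 : Z.map a.toMonoidHom = Z := by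
      conv_lhs => rw [← h1]
      ext x
      constructor
      · rintro ⟨_, ⟨y, hy, rfl⟩, rfl⟩
        simpa using hy
      · intro hx
        exact ⟨(a⁻¹ : MulAut E) x, ⟨x, hx, rfl⟩, MulAut.apply_inv_self E a x⟩
    refine ⟨inf_le_left.trans h2.ge, hcK (h.root_eq ha ?_)⟩
    exact h2.le ⟨c, h.cZ, rfl⟩
  -- the hyperplane `a Z` meets the plane in a root
  have hidx : (Z.map a.toMonoidHom).index = p := by
    rw [index_map_of_bijective (f := a.toMonoidHom) a.bijective, h.idx]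
  have hcn : c ∉ Z.map a.toMonoidHom := by
    rintro ⟨x, hx, hxc⟩
    apply hca
    rw [show c = a x from hxc.symm, MulAut.inv_apply_self]
    exact hx
  obtain ⟨y, hy, i, hi⟩ := exists_mul_pow h.comm hidx hcn (g c)
  obtain ⟨j, hj, hj'⟩ := h.mov (g c) hgc
  obtain ⟨m, hm⟩ := exists_pow_gen h.cp hj'
  set k := m * (i * (p - 1)) with hk
  set q := t ^ k * g with hq
  have hqA : q ∈ A := A.mul_mem (A.pow_mem h.tA k) hg
  have hqc : q c = y := by
    rw [hq, MulAut.mul_apply, pow_apply_of_fix hj (by rw [map_pow, h.tc]) k, hk, pow_mul, hm]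
    rw [hi, mul_assoc, ← pow_add, show i + i * (p - 1) = p * i by
      rw [add_comm, ← Nat.mul_succ, Nat.succ_eq_add_one, Nat.sub_add_cancel hp.out.one_le,
        mul_comm],
      pow_mul, h.cp, one_pow, mul_one]
  have hy' : (a⁻¹ * q) c ∈ Z := by
    obtain ⟨x, hx, hxy⟩ := hy
    rw [MulAut.mul_apply, hqc, show y = a x from hxy.symm, MulAut.inv_apply_self]
    exact hx
  have h1 := h.map_eq (A.mul_mem (A.inv_mem ha) hqA) hy'
  have h2 : Z.map q.toMonoidHom = Z.map a.toMonoidHom := by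
    conv_rhs => rw [← h1]
    rw [map_map]
    congr 1
    ext x
    simp [MulAut.mul_apply]
  refine ⟨fun w hw => h2.le ?_, ?_⟩
  · obtain ⟨z, hz, hzw⟩ := hw.2
    refine ⟨z, hz, ?_⟩
    show (t ^ k) (g z) = w
    rw [show g z = w from hzw]
    exact pow_fix (h.fix w hw.1) k
  · have h3 : (q⁻¹ * a) c ∈ Z := by
      obtain ⟨z, hz, hzc⟩ := h2.ge ⟨c, h.cZ, rfl⟩
      rw [MulAut.mul_apply, show a c = q z from hzc.symm, MulAut.inv_apply_self]
      exact hz
    obtain ⟨n, hn⟩ := mem_zpowers_iff.1 (h.root_eq (A.mul_mem (A.inv_mem hqA) ha) h3)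
    have h4 : a c = (q c) ^ n := by
      rw [← map_zpow, hn, ← MulAut.mul_apply, mul_inv_cancel_left]
    rw [h4]
    refine zpow_mem ?_ n
    rw [hq, MulAut.mul_apply, pow_apply_of_fix hj (by rw [map_pow, h.tc]) k]
    have hc1 : c ∈ closure ({c, g c} : Set E) := Subgroup.subset_closure (Or.inl rfl)
    have hc2 : g c ∈ closure ({c, g c} : Set E) := Subgroup.subset_closure (Or.inr rfl)
    exact mul_mem hc2 (pow_mem (pow_mem hc1 _) _)

theorem TrData.invariant [Finite E] (h : TrData p A t Z c) {g : MulAut E} (hg : g ∈ A)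
    (hgc : g c ∉ Z) {a : MulAut E} (ha : a ∈ A) {y : E} (hy : y ∈ Z ⊓ Z.map g.toMonoidHom) :
    a y ∈ Z ⊓ Z.map g.toMonoidHom := by
  refine ⟨?_, ?_⟩
  · obtain ⟨z, hz, hzy⟩ := (h.common hg hgc (A.inv_mem ha)).1 hy
    rw [show y = a⁻¹ z from hzy.symm, MulAut.apply_inv_self]
    exact hz
  · obtain ⟨z, hz, hzy⟩ := (h.common hg hgc (A.mul_mem (A.inv_mem ha) hg)).1 hy
    refine ⟨z, hz, ?_⟩
    rw [show y = (a⁻¹ * g) z from hzy.symm, MulAut.mul_apply, MulAut.apply_inv_self]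
    rfl

theorem TrData.exists_uv [Finite E] (h : TrData p A t Z c) {g : MulAut E} (hg : g ∈ A)
    (hgc : g c ∉ Z) :
    ∃ u ∈ A, ∃ v ∈ A, (∀ y ∈ Z ⊓ Z.map g.toMonoidHom, u y = y ∧ v y = y) ∧
      u c = c ∧ u (g c) = g c * c ∧ v (g c) = g c ∧ v c = c * (g c)⁻¹ := by
  obtain ⟨j, hj, hj'⟩ := h.mov (g c) hgc
  obtain ⟨k, hk⟩ := exists_pow_gen h.cp hj'
  have hx : (g⁻¹ : MulAut E) c ∉ Z := fun hx =>
    h.notMem_map hg hgc ⟨_, hx, MulAut.apply_inv_self E g c⟩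
  obtain ⟨i, hi, hi'⟩ := h.mov _ hx
  obtain ⟨l, hl⟩ := exists_pow_gen h.cp hi'
  set d := g * t * g⁻¹ with hd
  have hdA : d ∈ A := A.mul_mem (A.mul_mem hg h.tA) (A.inv_mem hg)
  have hdr : d (g c) = g c := by rw [hd, TrData.conj_apply, h.tc]
  have hdc : d c = c * g c ^ i := by
    have h1 := TrData.conj_apply (t := t) g (g⁻¹ c)
    rw [MulAut.apply_inv_self, hi, map_mul, map_pow, MulAut.apply_inv_self] at h1
    exact h1
  refine ⟨t ^ k, A.pow_mem h.tA k, d ^ (l * (p - 1)), A.pow_mem hdA _, ?_, pow_fix h.tc k, ?_,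
    pow_fix hdr _, ?_⟩
  · rintro y ⟨hy1, z, hz, hzy⟩
    refine ⟨pow_fix (h.fix y hy1) k, pow_fix ?_ _⟩
    rw [← show g z = y from hzy, hd, TrData.conj_apply, h.fix z hz]
  · rw [pow_apply_of_fix hj (by rw [map_pow, h.tc]) k, hk]
  · rw [pow_apply_of_fix hdc (by rw [map_pow, hdr]), pow_mul, ← map_pow, ← map_pow, hl]
    refine congrArg (c * ·) ?_
    rw [← map_pow, ← map_inv]
    refine congrArg g (eq_inv_of_mul_eq_one_left ?_)
    rw [← pow_succ, Nat.sub_add_cancel hp.out.one_le, h.cp]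

theorem TrData.exists_swap [Finite E] (h : TrData p A t Z c) {g : MulAut E} (hg : g ∈ A)
    (hgc : g c ∉ Z) :
    ∃ w ∈ A, (∀ y ∈ Z ⊓ Z.map g.toMonoidHom, w y = y) ∧ w c = (g c)⁻¹ ∧ w (g c) = c := by
  obtain ⟨u, hu, v, hv, hfix, huc, hur, hvr, hvc⟩ := h.exists_uv hg hgc
  refine ⟨u * v * u, A.mul_mem (A.mul_mem hu hv) hu, fun y hy => ?_, ?_, ?_⟩
  · rw [MulAut.mul_apply, MulAut.mul_apply, (hfix y hy).1, (hfix y hy).2, (hfix y hy).1]
  · rw [MulAut.mul_apply, MulAut.mul_apply, huc, hvc, map_mul, map_inv, huc, hur, mul_inv_rev,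
      mul_inv_cancel_left]
  · rw [MulAut.mul_apply, MulAut.mul_apply, hur, map_mul, hvr, hvc, h.comm c (g c)⁻¹,
      mul_inv_cancel_left, huc]

/-- An element inverting the root and the plane, trivial on the common part. -/
theorem TrData.exists_invert [Finite E] (h : TrData p A t Z c) {g : MulAut E} (hg : g ∈ A)
    (hgc : g c ∉ Z) :
    ∃ m ∈ A, (∀ y ∈ Z ⊓ Z.map g.toMonoidHom, m y = y) ∧ m c = c⁻¹ ∧
      m * t * m⁻¹ = t := by
  obtain ⟨w, hw, hfix, hwc, hwr⟩ := h.exists_swap hg hgc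
  have hmc : (w * w) c = c⁻¹ := by rw [MulAut.mul_apply, hwc, map_inv, hwr]
  have hmr : (w * w) (g c) = (g c)⁻¹ := by rw [MulAut.mul_apply, hwr, hwc]
  have hm : ∀ y ∈ Z ⊓ Z.map g.toMonoidHom, (w * w) y = y := fun y hy => by
    rw [MulAut.mul_apply, hfix y hy, hfix y hy]
  refine ⟨w * w, A.mul_mem hw hw, hm, hmc, mul_inv_eq_iff_eq_mul.2 (MulEquiv.ext fun x => ?_)⟩
  obtain ⟨j, hj⟩ := h.tmov (g c)
  obtain ⟨y, hy, i, l, rfl⟩ := h.split hg hgc x
  show (w * w) (t (y * c ^ i * g c ^ l)) = t ((w * w) (y * c ^ i * g c ^ l))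
  simp only [map_mul t, map_pow t, map_inv t, map_mul (w * w), map_pow (w * w), 
    hm y hy, hmc, hmr, hj, h.fix y hy.1, h.tc]
  simp only [mul_inv_rev, h.comm (c ^ j)⁻¹, inv_pow]

/-- Every element is, up to an element trivial on the common part, in the normalizer of `⟨t⟩`. -/
theorem TrData.factor [Finite E] (h : TrData p A t Z c) {g : MulAut E} (hg : g ∈ A)
    (hgc : g c ∉ Z) {a : MulAut E} (ha : a ∈ A) :
    ∃ w ∈ A, (∀ y ∈ Z ⊓ Z.map g.toMonoidHom, w y = y) ∧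
      (∀ x, x⁻¹ * w x ∈ closure ({c, g c} : Set E)) ∧ (w * a) * t * (w * a)⁻¹ ∈ zpowers t := by
  by_cases hac : a c ∈ Z
  · exact ⟨1, A.one_mem, fun _ _ => rfl, fun x => by simp, by simpa using h.conj_mem ha hac⟩
  obtain ⟨w, hw, hfix, hwc, hwr⟩ := h.exists_swap ha hac
  have hfix' : ∀ y ∈ Z ⊓ Z.map g.toMonoidHom, w y = y := fun y hy =>
    hfix y ⟨hy.1, (h.common hg hgc ha).1 hy⟩
  refine ⟨w, hw, hfix', fun x => ?_, ?_⟩
  · obtain ⟨y, hy, i, l, rfl⟩ := h.split ha hac x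
    rw [map_mul, map_mul, map_pow, map_pow, hfix y hy, hwc, hwr]
    have e : (y * c ^ i * a c ^ l)⁻¹ * (y * (a c)⁻¹ ^ i * c ^ l) =
        (c ^ i * a c ^ l)⁻¹ * ((a c)⁻¹ ^ i * c ^ l) := by group
    rw [e]
    have h1 : c ∈ closure ({c, g c} : Set E) := subset_closure (Or.inl rfl)
    have h2 := (h.common hg hgc ha).2
    exact mul_mem (inv_mem (mul_mem (pow_mem h1 i) (pow_mem h2 l)))
      (mul_mem (pow_mem (inv_mem h2) i) (pow_mem h1 l))
  · exact h.conj_mem (A.mul_mem hw ha) (by rw [MulAut.mul_apply, hwr]; exact h.cZ)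

end H75.SmallIndex
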