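import Cfsg.Agent.H75.SmallIndex.Center
import Cfsg.Agent.H75.SmallIndex.Transvection
import Cfsg.Agent.H87.Essential
import Cfsg.Agent.H88.Normal
import Cfsg.Agent.H89.OmitClass
import Cfsg.Agent.H11.MaxFam

/-!
Essential subgroups when the centre has index `p²`.
-/

set_option autoImplicit false
set_option linter.style.haveILetI false

open Cfsg Cfsg.FusionSystem
open scoped commutatorElement

namespace H75.SmallIndex

variable {Ω : Type*} [Group Ω] {S : Subgroup Ω} [Finite S] {p : ℕ} [hp : Fact p.Prime]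
  {F : FusionSystem S} {E : Subgroup Ω}

omit hp in
theorem relIndex_eq_one_iff {A B : Subgroup Ω} : A.relIndex B = 1 ↔ B ≤ A :=
  Subgroup.relIndex_eq_one

theorem essential_index (h : SmallCenter p S) (hF : F.IsSaturated p) (hE : F.IsEssential p E) :
    zc S ≤ E ∧ E ≤ S ∧ (zc S).relIndex E = p ∧ E.relIndex S = p := by
  have hES : E ≤ S := hE.1.1
  have hZE : zc S ≤ E := fun z hz => H87.essential_centric hE (zc_le S hz)
    fun e he => (mem_zc.1 hz).2 e (hES he)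
  have hmul : (zc S).relIndex E * E.relIndex S = p ^ 2 :=
    (Subgroup.relIndex_mul_relIndex _ _ _ hZE hES).trans h.idx
  have h1 : E.relIndex S ≠ 1 := fun h1 =>
    H89.essential_ne_top h.pgroup hF hE (le_antisymm hES (relIndex_eq_one_iff.1 h1))
  have h2 : (zc S).relIndex E ≠ 1 := fun h2 => by
    have hle := relIndex_eq_one_iff.1 h2
    refine h1 (relIndex_eq_one_iff.2 fun x hx => H87.essential_centric hE hx fun e he => ?_)
    exact ((mem_zc.1 (hle he)).2 x hx).symm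
  have h3 : E.relIndex S ∣ p ^ 2 := ⟨_, by rw [← hmul, mul_comm]⟩
  obtain ⟨i, hi, hi'⟩ := (Nat.dvd_prime_pow hp.out).1 h3
  have hi0 : i ≠ 0 := fun e => h1 (by rw [hi', e, pow_zero])
  have hi2 : i ≠ 2 := fun e => h2 (by
    rw [hi', e] at hmul
    exact (mul_eq_right₀ (pow_ne_zero 2 hp.out.ne_zero)).1 hmul)
  have hi1 : i = 1 := by omega
  rw [hi', hi1, pow_one, sq] at hmul
  exact ⟨hZE, hES, Nat.eq_of_mul_eq_mul_right hp.out.pos hmul, by rw [hi', hi1, pow_one]⟩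

theorem eq_sup_zpowers (h : SmallCenter p S) (hF : F.IsSaturated p) (hE : F.IsEssential p E)
    {e : Ω} (he : e ∈ E) (heZ : e ∉ zc S) : E = zc S ⊔ Subgroup.zpowers e := by
  obtain ⟨hZE, hES, hi, -⟩ := essential_index h hF hE
  have hle : zc S ⊔ Subgroup.zpowers e ≤ E := sup_le hZE (Subgroup.zpowers_le.2 he)
  refine le_antisymm (relIndex_eq_one_iff.1 ?_) hle
  have hmul := Subgroup.relIndex_mul_relIndex (zc S) (zc S ⊔ Subgroup.zpowers e) E le_sup_left hle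
  rw [hi] at hmul
  refine ((Nat.dvd_prime hp.out).1 ⟨_, (mul_comm ((zc S).relIndex _) _ ▸ hmul).symm⟩).resolve_right
    fun h1 => heZ ?_
  rw [h1] at hmul
  have h2 : (zc S).relIndex (zc S ⊔ Subgroup.zpowers e) = 1 := (mul_eq_right₀ hp.out.ne_zero).1 hmul
  exact relIndex_eq_one_iff.1 h2 (Subgroup.mem_sup_right (Subgroup.mem_zpowers e))

/-- The data attached to an essential subgroup. -/
def EssData (F : FusionSystem S) (p : ℕ) (E Y : Subgroup Ω) (r : Ω) : Prop :=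
  r ∈ E ∧ r ∉ zc S ∧ r ^ p = 1 ∧ E = zc S ⊔ Subgroup.zpowers r ∧ IsMulCommutative ↥E ∧
  Y ≤ zc S ∧ ⁅S, S⁆ ⊓ Y = ⊥ ∧ (∀ z ∈ zc S, ∃ y ∈ Y, ∃ ρ ∈ ⁅S, S⁆, z = y * ρ) ∧
  (∀ α ∈ F.autGroup E, ∀ x : E, (x : Ω) ∈ Y → ((α x : E) : Ω) ∈ Y) ∧
  (∀ α ∈ F.autGroup E, ∃ β ∈ F.autGroup S, ∀ (x : E) (hx : (x : Ω) ∈ S),
    ((x : Ω) ∈ Y → ((β ⟨x, hx⟩ : S) : Ω) = ((α x : E) : Ω)) ∧
      ((α x : E) : Ω)⁻¹ * ((β ⟨x, hx⟩ : S) : Ω) ∈ ⁅S, S⁆ ⊔ Subgroup.zpowers r) ∧
  (∃ β ∈ F.autGroup S, (∀ x : S, (x : Ω) ∈ Y → β x = x) ∧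
    ∀ x : S, (x : Ω) ∈ ⁅S, S⁆ → β x = x⁻¹)

theorem exists_essData (h : SmallCenter p S) (hF : F.IsSaturated p) (hE : F.IsEssential p E) :
    ∃ Y r, EssData F p E Y r := by
  classical
  have hS := h.pgroup
  obtain ⟨hZE, hES, hiZ, hiE⟩ := essential_index h hF hE
  haveI : Finite E := H85.finite_of_le hES
  haveI : Finite (MulAut E) := Finite.of_injective _ DFunLike.coe_injective
  set R : Subgroup Ω := ⁅S, S⁆ with hRdef
  have hRZ : R ≤ zc S := h.comm_le
  -- generators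
  obtain ⟨e0, he0, he0Z⟩ : ∃ e ∈ E, e ∉ zc S := by
    by_contra hne
    push Not at hne
    exact hp.out.one_lt.ne (hiZ ▸ (relIndex_eq_one_iff.2 hne).symm)
  obtain ⟨s, hs, hsE⟩ : ∃ s ∈ S, s ∉ E := by
    by_contra hne
    push Not at hne
    exact hp.out.one_lt.ne (hiE ▸ (relIndex_eq_one_iff.2 hne).symm)
  have hEeq := eq_sup_zpowers h hF hE he0 he0Z
  have hEcomm : IsMulCommutative ↥E := by
    rw [hEeq]
    refine H11.isMulCommutative_sup (H11.isMulCommutative_of_commute fun x hx y hy =>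
        (mem_zc.1 hy).2 x (zc_le S hx))
      (H11.isMulCommutative_of_commute fun x hx y hy => ?_)
      fun x hx y hy => (((mem_zc.1 hx).2 y (hES (Subgroup.zpowers_le.2 he0 hy)))).symm
    obtain ⟨i, rfl⟩ := Subgroup.mem_zpowers_iff.1 hx
    obtain ⟨j, rfl⟩ := Subgroup.mem_zpowers_iff.1 hy
    rw [← zpow_add, ← zpow_add, add_comm]
  have hnorm : ∀ g ∈ S, g ∈ Subgroup.normalizer (E : Set Ω) := fun g hg =>
    H85.mem_normalizer_of_conj fun x hx => by
      have h1 : ⁅g, x⁆ ∈ E := hZE (hRZ (Subgroup.commutator_mem_commutator hg (hES hx)))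
      have := E.mul_mem h1 hx
      rwa [commutatorElement_def, inv_mul_cancel_right] at this
  -- cosets of `E`
  have hcoset : ∀ x ∈ S, ∃ n : ℤ, ∃ e ∈ E, x = s ^ n * e := by
    intro x hx
    haveI : (E.subgroupOf S).Normal :=
      ⟨fun n hn g => show (g : Ω) * n * (g : Ω)⁻¹ ∈ E from
        H85.conj_mem_of_mem_normalizer (hnorm g g.2) hn⟩
    have hcard : Nat.card (↥S ⧸ E.subgroupOf S) = p := by rw [← Subgroup.index_eq_card]; exact hiE
    have hm : (QuotientGroup.mk (⟨s, hs⟩ : S) : ↥S ⧸ E.subgroupOf S) ≠ 1 :=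
      fun hh => hsE (show (⟨s, hs⟩ : S) ∈ E.subgroupOf S from (QuotientGroup.eq_one_iff _).1 hh)
    obtain ⟨n, hn⟩ := Subgroup.mem_zpowers_iff.1 (mem_zpowers_of_prime_card hcard hm
      (g' := (QuotientGroup.mk (⟨x, hx⟩ : S) : ↥S ⧸ E.subgroupOf S)))
    rw [← QuotientGroup.mk_zpow, QuotientGroup.eq] at hn
    exact ⟨n, _, hn, (mul_inv_cancel_left (s ^ n) x).symm⟩
  set sN : ↥(normalizerIn S E) := ⟨s, hs, hnorm s hs⟩ with hsN
  set t : MulAut E := H85.conjAut S E sN with ht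
  have htA : t ∈ F.autGroup E :=
    H85.autInducedBy_le_autGroup F hES (H85.conjAut_range S E ▸ ⟨sN, rfl⟩)
  have hind : autInducedBy S E ≤ Subgroup.zpowers t := by
    rw [← H85.conjAut_range]
    rintro _ ⟨⟨x, hx, hxN⟩, rfl⟩
    obtain ⟨n, e, he, rfl⟩ := hcoset x hx
    refine Subgroup.mem_zpowers_iff.2 ⟨n, ?_⟩
    rw [ht, ← map_zpow]
    refine MulEquiv.ext fun y => Subtype.ext ?_
    rw [H85.conjAut_apply, H85.conjAut_apply, SubgroupClass.coe_zpow]
    show s ^ n * (y : Ω) * (s ^ n)⁻¹ = s ^ n * e * (y : Ω) * (s ^ n * e)⁻¹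
    rw [mul_inv_rev, mul_assoc (s ^ n) e,
      (H11.comm_of_mulCommutative hEcomm he y.2).eq]
    group
  -- the root
  have hc0R : ⁅s, e0⁆ ∈ R := Subgroup.commutator_mem_commutator hs (hES he0)
  have hzsE : ∀ x ∈ E, s * x = x * s → x ∈ zc S := by
    intro x hx hsx
    refine mem_zc.2 ⟨hES hx, fun y hy => ?_⟩
    obtain ⟨n, e, he, rfl⟩ := hcoset y hy
    have h1 : Commute (s ^ n) x := Commute.zpow_left hsx n
    exact (h1.mul_left (H11.comm_of_mulCommutative hEcomm he hx)).eq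
  have hc0 : ⁅s, e0⁆ ≠ 1 := fun h1 =>
    he0Z (hzsE e0 he0 (commutatorElement_eq_one_iff_mul_comm.1 h1))
  haveI : Finite R := H85.finite_of_le (hRZ.trans (zc_le S))
  have hRpow : ∀ x ∈ R, x ^ p = 1 := fun x hx => by
    have := pow_card_eq_one' (G := R) (x := ⟨x, hx⟩)
    rw [h.comm_card] at this
    exact congrArg Subtype.val this
  have hRgen : R = Subgroup.zpowers ⁅s, e0⁆ := by
    refine (Subgroup.eq_of_le_of_card_ge (Subgroup.zpowers_le.2 hc0R) (le_of_eq ?_)).symm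
    rw [h.comm_card, Nat.card_zpowers]
    exact (orderOf_eq_prime (hRpow _ hc0R) hc0).symm
  set c : E := ⟨⁅s, e0⁆, hZE (hRZ hc0R)⟩ with hc
  set ZE : Subgroup E := (zc S).subgroupOf E with hZEdef
  have hmem : ∀ x : E, x ∈ ZE ↔ (x : Ω) ∈ zc S := fun _ => Iff.rfl
  have htr : TrData p (F.autGroup E) t ZE c := by
    refine ⟨fun x y => Subtype.ext (H11.comm_of_mulCommutative hEcomm x.2 y.2).eq, htA, ?_, ?_,
      hRZ hc0R, Subtype.ext (hRpow _ hc0R), fun h1 => hc0 (congrArg Subtype.val h1), hiZ, ?_⟩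
    · intro z hz
      refine Subtype.ext ?_
      rw [ht, H85.conjAut_apply]
      show s * (z : Ω) * s⁻¹ = z
      rw [show s * (z : Ω) = z * s from (mem_zc.1 hz).2 s hs, mul_inv_cancel_right]
    · intro x hx
      have h1 : ⁅s, (x : Ω)⁆ ∈ R := Subgroup.commutator_mem_commutator hs (hES x.2)
      rw [hRgen] at h1
      have hfin : IsOfFinOrder ⁅s, e0⁆ :=
        isOfFinOrder_iff_pow_eq_one.2 ⟨p, hp.out.pos, hRpow _ hc0R⟩
      obtain ⟨j, hj⟩ := Submonoid.mem_powers_iff _ _ |>.1 (hfin.mem_powers_iff_mem_zpowers.2 h1)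
      refine ⟨j, Subtype.ext ?_, fun h2 => hx (hzsE x x.2 ?_)⟩
      · rw [ht, H85.conjAut_apply, Subgroup.coe_mul, SubgroupClass.coe_pow]
        show s * (x : Ω) * s⁻¹ = x * ⁅s, e0⁆ ^ j
        have h3 : ⁅s, (x : Ω)⁆ * x = x * ⁅s, (x : Ω)⁆ :=
          ((mem_zc.1 (hRZ (Subgroup.commutator_mem_commutator hs (hES x.2)))).2 x (hES x.2)).symm
        rw [hj, ← h3, commutatorElement_def, inv_mul_cancel_right]
      · have h4 : ⁅s, e0⁆ ^ j = 1 := congrArg Subtype.val h2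
        rw [hj] at h4
        exact commutatorElement_eq_one_iff_mul_comm.1 h4
    · intro L hL hLp htL
      have h1 := ((H85.isFullyAutomized_iff hS).1
        (H85.fullyAutomized_of_fullyNormalized hS hF hE.2.1)).2 L hL hLp
        (hind.trans (Subgroup.zpowers_le.2 htL))
      exact h1.le.trans hind
  -- a conjugate transvection
  obtain ⟨g, hg, hgc⟩ : ∃ g ∈ F.autGroup E, g c ∉ ZE := by
    by_contra hne
    push Not at hne
    have hp' : IsPGroup p (Subgroup.zpowers t) :=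
      (H85.autInducedBy_isPGroup hS E).to_le
        (Subgroup.zpowers_le.2 (H85.conjAut_range S E ▸ ⟨sN, rfl⟩))
    have hn : t ∈ Inn E := H87.essential_mem_inn hE (Subgroup.zpowers t)
      (hp'.to_le inf_le_left) (fun a ha b hb _ => by
        obtain ⟨i, rfl⟩ := Subgroup.mem_zpowers_iff.1 hb
        rw [← conj_zpow]
        exact zpow_mem (htr.conj_mem ha (hne a ha)) i) (Subgroup.mem_zpowers t) htA
    have h1 := H87.inn_eq_one_of_comm hEcomm hn
    refine he0Z (hzsE e0 he0 (mul_inv_eq_iff_eq_mul.1 ?_))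
    have h2 := congrArg (fun f : MulAut E => ((f ⟨e0, he0⟩ : E) : Ω)) h1
    simp only [MulAut.one_apply, ht, H85.conjAut_apply] at h2
    exact h2
  set W : Subgroup E := ZE ⊓ ZE.map g.toMonoidHom with hW
  set r : Ω := ((g c : E) : Ω) with hr
  have hcl : ∀ {x : E}, x ∈ Subgroup.closure ({c, g c} : Set E) →
      (x : Ω) ∈ R ⊔ Subgroup.zpowers r := by
    intro x hx
    have : Subgroup.closure ({c, g c} : Set E) ≤ (R ⊔ Subgroup.zpowers r).subgroupOf E := by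
      rw [Subgroup.closure_le]
      rintro y (rfl | rfl)
      · exact (le_sup_left : R ≤ R ⊔ Subgroup.zpowers r) hc0R
      · exact (le_sup_right : Subgroup.zpowers r ≤ R ⊔ Subgroup.zpowers r) (Subgroup.mem_zpowers r)
    exact this hx
  -- extension to `S`
  have hext : ∀ b ∈ F.autGroup E, b * t * b⁻¹ ∈ Subgroup.zpowers t →
      ∃ β ∈ F.autGroup S, ∀ (x : E) (hx : (x : Ω) ∈ S), ((β ⟨x, hx⟩ : S) : Ω) = (b x : E) := by
    intro b hb hbt
    have hb' := (H85.mem_autGroup hES).1 hb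
    set T := extender S E (E.subtype.comp b.toMonoidHom) with hT
    obtain ⟨ψ, hψ, hψext⟩ : ∃ ψ ∈ F.Hom T, ∀ (x : Ω) (hP : x ∈ E) (hN : x ∈ T),
        ψ ⟨x, hN⟩ = (b ⟨x, hP⟩ : E) :=
      H85.receptive_extend (H85.receptive_of_fullyNormalized hS hF hE.2.1) hb'
    have hET : E ≤ T := H85.le_extender hES fun x => hES (b x).2
    have hsT : s ∈ T := by
      obtain ⟨i, hi⟩ := Subgroup.mem_zpowers_iff.1 hbt
      refine H85.mem_extender.2 ⟨hs, hnorm s hs, s ^ i, zpow_mem hs i, fun x hx => ?_⟩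
      have h1 := TrData.conj_apply (t := t) b x
      rw [← hi] at h1
      have h2 := congrArg (fun y : E => (y : Ω)) h1
      simp only [ht, ← map_zpow, H85.conjAut_apply, SubgroupClass.coe_zpow] at h2
      exact h2.symm
    have hST : S ≤ T := by
      intro x hx
      obtain ⟨n, e, he, rfl⟩ := hcoset x hx
      exact mul_mem (zpow_mem hsT n) (hET he)
    have hψS := H85.restrict hψ hST
    have hr' : (ψ.comp (Subgroup.inclusion hST)).range = S :=
      H85.conj_top ⟨_, hψS, rfl⟩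
    refine ⟨H85.isoOf _ hψS hr', (H85.mem_autGroup le_rfl).2 (H85.isFIso_isoOf _ hψS hr'),
      fun x hx => ?_⟩
    rw [H85.isoOf_apply]
    exact hψext x x.2 _
  refine ⟨W.map E.subtype, r, (g c).2, hgc, ?_, eq_sup_zpowers h hF hE (g c).2 hgc, hEcomm,
    ?_, ?_, ?_, ?_, ?_, ?_⟩
  · rw [hr, ← SubgroupClass.coe_pow, ← map_pow, htr.cp, map_one]; rfl
  · rintro _ ⟨x, hx, rfl⟩
    exact hx.1
  · refine eq_bot_iff.2 fun x hx => Subgroup.mem_bot.2 (by_contra fun hx1 => ?_)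
    obtain ⟨hxR, y, hy, hyx⟩ := hx
    have hgen : R = Subgroup.zpowers x := by
      refine (Subgroup.eq_of_le_of_card_ge (Subgroup.zpowers_le.2 hxR) (le_of_eq ?_)).symm
      rw [h.comm_card, Nat.card_zpowers]
      exact (orderOf_eq_prime (hRpow _ hxR) hx1).symm
    obtain ⟨i, hi⟩ := Subgroup.mem_zpowers_iff.1 (hgen.le hc0R)
    refine htr.notMem_map hg hgc ?_
    have : c = y ^ i := Subtype.ext (by
      rw [SubgroupClass.coe_zpow, show (y : Ω) = x from hyx, hi])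
    exact this ▸ zpow_mem (Subgroup.mem_inf.1 hy).2 i
  · intro z hz
    obtain ⟨y, hy, i, hi⟩ := htr.split_center hg hgc (z := ⟨z, hZE hz⟩) hz
    exact ⟨(y : Ω), ⟨y, hy, rfl⟩, _, R.pow_mem hc0R i, congrArg Subtype.val hi⟩
  · rintro α hα x ⟨y, hy, hyx⟩
    exact ⟨α x, htr.invariant hg hgc hα ((Subtype.ext hyx : y = x) ▸ hy), rfl⟩
  · intro α hα
    obtain ⟨w, hw, hwfix, hwcl, hwt⟩ := htr.factor hg hgc hα
    obtain ⟨β, hβ, hβb⟩ := hext (w * α) ((F.autGroup E).mul_mem hw hα) hwt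
    refine ⟨β, hβ, fun x hx => ⟨?_, ?_⟩⟩
    · rintro ⟨y, hy, hyx⟩
      have hxW : α x ∈ W := htr.invariant hg hgc hα ((Subtype.ext hyx : y = x) ▸ hy)
      rw [hβb x hx, MulAut.mul_apply, hwfix _ hxW]
    · rw [hβb x hx, MulAut.mul_apply]
      exact hcl (hwcl (α x))
  · obtain ⟨m, hm, hmfix, hmc, hmt⟩ := htr.exists_invert hg hgc
    obtain ⟨β, hβ, hβm⟩ := hext m hm (by rw [hmt]; exact Subgroup.mem_zpowers t)
    refine ⟨β, hβ, ?_, ?_⟩
    · rintro x ⟨y, hy, hyx⟩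
      have h1 := hβm y (hES y.2)
      rw [hmfix y hy, show (⟨(y : Ω), hES y.2⟩ : S) = x from Subtype.ext hyx] at h1
      exact Subtype.ext (h1.trans hyx)
    · intro x hx
      obtain ⟨i, hi⟩ := Subgroup.mem_zpowers_iff.1 (hRgen.le hx)
      have h1 := hβm c (hES c.2)
      have hx' : x = (⟨(c : Ω), hES c.2⟩ : S) ^ i := Subtype.ext (by
        rw [SubgroupClass.coe_zpow]; exact hi.symm)
      rw [hmc] at h1
      rw [hx', map_zpow, show β ⟨(c : Ω), hES c.2⟩ = (⟨(c : Ω), hES c.2⟩ : S)⁻¹ from Subtype.ext h1,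
        inv_zpow]

end H75.SmallIndex
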