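import Cfsg.Agent.H75.SmallIndex.Basics

/-!
The case of odd `p`.
-/

set_option autoImplicit false
set_option linter.style.haveILetI false

open Cfsg Cfsg.FusionSystem
open scoped commutatorElement

namespace H75.SmallIndex

variable {Ω : Type*} [Group Ω] {S : Subgroup Ω} [Finite S] {p : ℕ} [hp : Fact p.Prime]
  {F : FusionSystem S}

theorem mul_pow_class_two {G : Type*} [Group G] {x y c : G} (hyx : y * x = c * (x * y))
    (hcx : c * x = x * c) (hcy : c * y = y * c) :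
    ∀ n : ℕ, (x * y) ^ n = x ^ n * y ^ n * c ^ (n.choose 2) := by
  have hyn : ∀ n : ℕ, y ^ n * x = x * y ^ n * c ^ n := by
    intro n
    induction n with
    | zero => simp
    | succ n ih =>
      have h1 : Commute c y := hcy
      calc y ^ (n + 1) * x = y * (y ^ n * x) := by rw [pow_succ', mul_assoc]
        _ = y * x * y ^ n * c ^ n := by rw [ih]; simp only [mul_assoc]
        _ = c * x * (y * y ^ n) * c ^ n := by rw [hyx]; simp only [mul_assoc]
        _ = x * (c * y ^ (n + 1)) * c ^ n := by rw [hcx, ← pow_succ']; simp only [mul_assoc]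
        _ = x * y ^ (n + 1) * c ^ (n + 1) := by
          rw [(h1.pow_right (n + 1)).eq, pow_succ' c]; simp only [mul_assoc]
  intro n
  induction n with
  | zero => simp
  | succ n ih =>
    have h1 : Commute (c ^ n.choose 2) (x * y) :=
      ((show Commute c x from hcx).pow_left _).mul_right ((show Commute c y from hcy).pow_left _)
    have h2 : Commute (c ^ n) y := (show Commute c y from hcy).pow_left _
    calc (x * y) ^ (n + 1) = x ^ n * y ^ n * (c ^ n.choose 2 * (x * y)) := by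
          rw [pow_succ, ih, mul_assoc]
      _ = x ^ n * (y ^ n * x) * y * c ^ n.choose 2 := by rw [h1.eq]; simp only [mul_assoc]
      _ = x ^ (n + 1) * y ^ n * (c ^ n * y) * c ^ n.choose 2 := by
          rw [hyn, pow_succ]; simp only [mul_assoc]
      _ = x ^ (n + 1) * y ^ (n + 1) * (c ^ n * c ^ n.choose 2) := by
          rw [h2.eq, pow_succ y]; simp only [mul_assoc]
      _ = _ := by rw [← pow_add, Nat.choose_succ_succ, Nat.choose_one_right]

/-- `β` inverts the derived subgroup and is trivial on the centre modulo it. -/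
def Invert (S : Subgroup Ω) (β : MulAut S) : Prop :=
  (∀ x : S, (x : Ω) ∈ ⁅S, S⁆ → β x = x⁻¹) ∧
    ∀ z : S, (z : Ω) ∈ zc S → ((z⁻¹ * β z : S) : Ω) ∈ ⁅S, S⁆

theorem odd_conclusion (hp2 : p ≠ 2) (h : SmallCenter p S) (hF : F.IsSaturated p)
    (hcore : F.core = ⊥) (hS1 : S ≠ ⊥) :
    Cfsg.IsExtraspecial p ↥S ∧ Nat.card S = p ^ 3 ∧ Monoid.exponent ↥S = p := by
  classical
  have hS := h.pgroup
  obtain ⟨E0, hE0⟩ := exists_essential h hF hcore hS1
  obtain ⟨Y0, r0, hr0E, hr0Z, hr0p, hE0eq, -, hY0Z, hRY0, hY0dec, -, -, h0, hh0, hh0Y, hh0R⟩ :=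
    exists_essData h hF hE0
  set R : Subgroup Ω := ⁅S, S⁆ with hR
  haveI : Finite R := H85.finite_of_le (h.comm_le.trans (zc_le S))
  have hRp : ∀ x : S, (x : Ω) ∈ R → x ^ p = 1 := fun x hx => by
    have := pow_card_eq_one' (G := R) (x := ⟨x, hx⟩)
    rw [h.comm_card] at this
    exact Subtype.ext (congrArg Subtype.val this :)
  have hodd : ∀ x : S, (x : Ω) ∈ R → x⁻¹ = x → x = 1 := fun x hx hinv => by
    have h2 : x ^ 2 = 1 := by rw [sq]; exact inv_eq_iff_mul_eq_one.1 hinv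
    have h3 := Nat.dvd_gcd (orderOf_dvd_of_pow_eq_one h2) (orderOf_dvd_of_pow_eq_one (hRp x hx))
    rw [(Nat.coprime_primes Nat.prime_two hp.out).2 (Ne.symm hp2)] at h3
    exact orderOf_eq_one_iff.1 (Nat.dvd_one.1 h3)
  have hdec : ∀ {Y : Subgroup Ω}, (∀ z ∈ zc S, ∃ y ∈ Y, ∃ ρ ∈ R, z = y * ρ) → Y ≤ zc S →
      ∀ z : S, (z : Ω) ∈ zc S → ∃ y ρ : S, (y : Ω) ∈ Y ∧ (ρ : Ω) ∈ R ∧ z = y * ρ := by
    intro Y hY hYZ z hz
    obtain ⟨y, hy, ρ, hρ, hzy⟩ := hY z hz
    exact ⟨⟨y, zc_le S (hYZ hy)⟩, ⟨ρ, zc_le S (h.comm_le hρ)⟩, hy, hρ, Subtype.ext hzy⟩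
  have hmkInv : ∀ {Y : Subgroup Ω} {β : MulAut S}, (∀ z ∈ zc S, ∃ y ∈ Y, ∃ ρ ∈ R, z = y * ρ) →
      Y ≤ zc S → (∀ x : S, (x : Ω) ∈ Y → β x = x) → (∀ x : S, (x : Ω) ∈ R → β x = x⁻¹) →
      Invert S β := by
    intro Y β hY hYZ hfix hinv
    refine ⟨hinv, fun z hz => ?_⟩
    obtain ⟨y, ρ, hy, hρ, rfl⟩ := hdec hY hYZ z hz
    rw [map_mul, hfix y hy, hinv ρ hρ, mul_inv_rev, mul_assoc, inv_mul_cancel_left]
    exact R.mul_mem (R.inv_mem hρ) (R.inv_mem hρ)
  have hinvol : ∀ z : S, (z : Ω) ∈ zc S → h0 (h0 z) = z := by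
    intro z hz
    obtain ⟨y, ρ, hy, hρ, rfl⟩ := hdec hY0dec hY0Z z hz
    rw [map_mul, hh0Y y hy, hh0R ρ hρ, map_mul, hh0Y y hy, map_inv, hh0R ρ hρ, inv_inv]
  have hI0 : Invert S h0 := hmkInv hY0dec hY0Z hh0Y hh0R
  -- all inverting automorphisms agree on the centre
  have hkey : ∀ β ∈ F.autGroup S, Invert S β → ∀ z : S, (z : Ω) ∈ zc S → β z = h0 z := by
    rintro β hβ ⟨hβR, hβZ⟩ z hz
    have hk : h0 * β ∈ F.autGroup S := (F.autGroup S).mul_mem hh0 hβ
    set σ := z⁻¹ * (h0 * β) z with hσ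
    have hσR : (σ : Ω) ∈ R := by
      have h1 : σ = z⁻¹ * h0 z * h0 (z⁻¹ * β z) := by
        rw [hσ, MulAut.mul_apply, map_mul, map_inv]; group
      rw [h1]
      exact R.mul_mem (hI0.2 z hz) (map_mem_comm h0 (hβZ z hz))
    have hkσ : (h0 * β) σ = σ := by
      rw [MulAut.mul_apply, hβR σ hσR, map_inv, hh0R σ hσR, inv_inv]
    have hkp : ((h0 * β) ^ p) z = z := by
      rw [pow_apply_of_fix (show (h0 * β) z = z * σ by rw [hσ, mul_inv_cancel_left]) hkσ p,
        hRp σ hσR, mul_one]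
    have hfix : h0 (β z) = z := fix_of_pow hS hF hk hz hkp
    calc β z = h0 (h0 (β z)) := (hinvol _ (map_mem_zc β hz)).symm
      _ = h0 z := by rw [hfix]
  have hfix0 : ∀ z : S, (z : Ω) ∈ zc S → h0 z = z → (z : Ω) ∈ Y0 := by
    intro z hz hfix
    obtain ⟨y, ρ, hy, hρ, rfl⟩ := hdec hY0dec hY0Z z hz
    rw [map_mul, hh0Y y hy, hh0R ρ hρ] at hfix
    rw [hodd ρ hρ (mul_left_cancel hfix), mul_one]
    exact hy
  -- `Y0` is invariant
  have hY0top : ∀ β ∈ F.autGroup S, ∀ x : S, (x : Ω) ∈ Y0 → ((β x : S) : Ω) ∈ Y0 := by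
    intro β hβ x hx
    refine hfix0 _ (map_mem_zc β (hY0Z hx)) ?_
    have hI : Invert S (β * h0 * β⁻¹) := by
      refine ⟨fun z hz => ?_, fun z hz => ?_⟩
      · rw [MulAut.mul_apply, MulAut.mul_apply, hh0R _ (map_mem_comm β⁻¹ hz), map_inv,
          MulAut.apply_inv_self]
      · have h1 : z⁻¹ * (β * h0 * β⁻¹) z = β ((β⁻¹ z)⁻¹ * h0 (β⁻¹ z)) := by
          rw [MulAut.mul_apply, MulAut.mul_apply, map_mul, map_inv, MulAut.apply_inv_self]
        rw [h1]
        exact map_mem_comm β (hI0.2 _ (map_mem_zc β⁻¹ hz))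
    have h2 := hkey _ ((F.autGroup S).mul_mem ((F.autGroup S).mul_mem hβ hh0)
      ((F.autGroup S).inv_mem hβ)) hI (β x) (map_mem_zc β (hY0Z hx))
    rw [MulAut.mul_apply, MulAut.mul_apply, MulAut.inv_apply_self, hh0Y x hx] at h2
    exact h2.symm
  have hY0 : Y0 = ⊥ := by
    by_contra hne
    refine false_of_invariant hS hF hcore (hY0Z.trans (zc_le S)) hne hY0top fun E hE => ?_
    obtain ⟨hZE, hES, -, -⟩ := essential_index h hF hE
    refine ⟨hY0Z.trans hZE, fun α hα x hx => ?_⟩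
    obtain ⟨Y, r, -, -, -, -, -, hYZ, -, hYdec, hYinv, -, h1, hh1, hh1Y, hh1R⟩ := exists_essData h hF hE
    have hIβ : Invert S h1 := hmkInv hYdec hYZ hh1Y hh1R
    have hYY : ∀ z : S, (z : Ω) ∈ Y → (z : Ω) ∈ Y0 := fun z hz =>
      hfix0 z (hYZ hz) (by rw [← hkey h1 hh1 hIβ z (hYZ hz), hh1Y z hz])
    have hxY : (x : Ω) ∈ Y := by
      obtain ⟨y, ρ, hy, hρ, hzy⟩ := hdec hYdec hYZ ⟨x, hES x.2⟩ (hY0Z hx)
      have hρY : (ρ : Ω) ∈ Y0 := by
        have : ρ = y⁻¹ * ⟨x, hES x.2⟩ := by rw [hzy, inv_mul_cancel_left]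
        rw [this]
        exact Y0.mul_mem (Y0.inv_mem (hYY y hy)) hx
      have h1' : (ρ : Ω) ∈ R ⊓ Y0 := ⟨hρ, hρY⟩
      rw [hRY0, Subgroup.mem_bot] at h1'
      have : (x : Ω) = (y : Ω) := by
        rw [show (x : Ω) = (y : Ω) * (ρ : Ω) from congrArg Subtype.val hzy, h1', mul_one]
      rw [this]
      exact hy
    exact hYY ⟨_, hES (α x).2⟩ (hYinv α hα x hxY)
  have hZR : zc S = R := by
    refine le_antisymm (fun z hz => ?_) h.comm_le
    obtain ⟨y, hy, ρ, hρ, rfl⟩ := hY0dec z hz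
    rw [hY0, Subgroup.mem_bot] at hy
    rw [hy, one_mul]
    exact hρ
  have hcard : Nat.card S = p ^ 3 := by
    rw [card_zc_mul h, hZR, h.comm_card, ← pow_succ']
  obtain ⟨hZE0, hE0S, -, hE0i⟩ := essential_index h hF hE0
  obtain ⟨s, hsS, hsE⟩ : ∃ s ∈ S, s ∉ E0 := by
    by_contra hne
    push Not at hne
    exact hp.out.one_lt.ne (hE0i ▸ (relIndex_eq_one_iff.2 hne).symm)
  have hnc : (⟨r0, hE0S hr0E⟩ : S) * ⟨s, hsS⟩ ≠ ⟨s, hsS⟩ * ⟨r0, hE0S hr0E⟩ := by
    intro he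
    refine hsE (H87.essential_centric hE0 hsS fun e he' => ?_)
    obtain ⟨z, hz, n, rfl⟩ := exists_zc_mul (hE0S hr0E) (hE0eq.le he')
    have h1 : Commute r0 s := congrArg Subtype.val he
    have h2 : Commute z s := ((mem_zc.1 hz).2 s hsS).symm
    exact (h2.mul_left (h1.zpow_left n)).eq
  refine ⟨H79.extraspecial_of_card_cube hcard hnc, hcard, ?_⟩
  -- exponent
  have hclass : ∀ x y : S, (x * y) ^ p = x ^ p * y ^ p := by
    intro x y
    set c : S := ⁅y, x⁆ with hc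
    have hcR : (c : Ω) ∈ R := Subgroup.commutator_mem_commutator y.2 x.2
    have hcen : ∀ w : S, c * w = w * c := fun w =>
      (Subtype.ext ((mem_zc.1 (h.comm_le hcR)).2 w w.2)).symm
    have hyx : y * x = c * (x * y) := by rw [hc, commutatorElement_def]; group
    rw [mul_pow_class_two hyx (hcen x) (hcen y) p]
    obtain ⟨k, hk⟩ := hp.out.dvd_choose_self (k := 2) (by norm_num)
      (lt_of_le_of_ne hp.out.two_le (Ne.symm hp2))
    rw [hk, pow_mul, hRp c hcR, one_pow, mul_one]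
  let U : Subgroup S :=
    { carrier := {x | x ^ p = 1}
      one_mem' := one_pow p
      mul_mem' := fun {a b} ha hb => by
        show (a * b) ^ p = 1
        rw [hclass, ha, hb, one_mul]
      inv_mem' := fun {a} ha => by
        show a⁻¹ ^ p = 1
        rw [inv_pow, ha, inv_one] }
  by_cases hU : U = ⊤
  · refine ((Nat.dvd_prime hp.out).1 (Monoid.exponent_dvd_of_forall_pow_eq_one fun x =>
      (hU.ge (Subgroup.mem_top x) : x ∈ U))).resolve_left fun h1 => hnc ?_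
    have hall : ∀ x : S, x = 1 := fun x => by
      have := Monoid.pow_exponent_eq_one x
      rwa [h1, pow_one] at this
    rw [hall ⟨r0, hE0S hr0E⟩, hall ⟨s, hsS⟩]
  exfalso
  have hEU : ∀ E, F.IsEssential p E → E = U.map S.subtype := by
    intro E hE
    obtain ⟨hZE, hES, -, hEi⟩ := essential_index h hF hE
    obtain ⟨Y, r, hrE, -, hrp, hEeq, -⟩ := exists_essData h hF hE
    have hle : E.subgroupOf S ≤ U := by
      intro x hx
      obtain ⟨z, hz, n, hxzn⟩ := exists_zc_mul (hES hrE) (hEeq.le hx)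
      have hzU : (⟨z, zc_le S hz⟩ : S) ∈ U := hRp _ (hZR.le hz)
      have hrU : (⟨r, hES hrE⟩ : S) ∈ U := Subtype.ext hrp
      have : x = ⟨z, zc_le S hz⟩ * (⟨r, hES hrE⟩ : S) ^ n := Subtype.ext hxzn
      rw [this]
      exact U.mul_mem hzU (U.zpow_mem hrU n)
    have heq : E.subgroupOf S = U := by
      refine le_antisymm hle ?_
      by_contra hne
      obtain ⟨u, huU, huE⟩ := SetLike.not_le_iff_exists.1 hne
      refine hU (eq_top_iff.2 fun x _ => ?_)
      have hx : (x : Ω) ∈ E ⊔ Subgroup.zpowers (u : Ω) :=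
        (eq_sup_of_index hES hEi u.2 huE).le x.2
      have hle2 : E ⊔ Subgroup.zpowers (u : Ω) ≤ U.map S.subtype := by
        refine sup_le (fun e he => ⟨⟨e, hES he⟩, hle he, rfl⟩) (Subgroup.zpowers_le.2 ⟨u, huU, rfl⟩)
      exact (Subgroup.mem_map_iff_mem S.subtype_injective).1 (hle2 hx)
    rw [← heq, Subgroup.map_subgroupOf_eq_of_le hES]
  have hne : U.map S.subtype ≠ ⊥ := fun hb => by
    have : (r0 : Ω) ∈ (⊥ : Subgroup Ω) := hb.le ((hEU E0 hE0).le hr0E)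
    rw [Subgroup.mem_bot] at this
    exact hr0Z (this ▸ one_mem _)
  refine false_of_invariant hS hF hcore (Subgroup.map_subtype_le U) hne ?_ fun E hE =>
    ⟨(hEU E hE).ge, fun α _ x _ => (hEU E hE).le (α x).2⟩
  rintro β - x ⟨y, hy, hyx⟩
  obtain rfl : y = x := Subtype.ext hyx
  refine ⟨β y, ?_, rfl⟩
  show β y ^ p = 1
  rw [← map_pow, show y ^ p = 1 from hy, map_one]

end H75.SmallIndex
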