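import Cfsg.Agent.H75.SmallIndex.Basics
import Cfsg.Agent.H65.Dihedral

/-!
The case `p = 2`.
-/

set_option autoImplicit false
set_option linter.style.haveILetI false

open Cfsg Cfsg.FusionSystem
open scoped commutatorElement

namespace H75.SmallIndex

variable {Ω : Type*} [Group Ω] {S : Subgroup Ω} [Finite S] {F : FusionSystem S}

/-- The centre is elementary abelian. -/
theorem two_zc_elementary [Fact (Nat.Prime 2)] (h : SmallCenter 2 S) (hF : F.IsSaturated 2)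
    (hcore : F.core = ⊥) {z : Ω} (hz : z ∈ zc S) : z * z = 1 := by
  let Q : Subgroup Ω := Subgroup.closure ((fun z => z * z) '' (zc S : Set Ω))
  have hQle : Q ≤ zc S := (Subgroup.closure_le _).2 (by
    rintro _ ⟨w, hw, rfl⟩; exact (zc S).mul_mem hw hw)
  by_contra hne
  refine false_of_invariant h.pgroup hF hcore (hQle.trans (zc_le S)) (fun hb => hne ?_)
    (fun β _ x hx => ?_) fun E hE => ?_
  · exact Subgroup.mem_bot.1 (hb.le (Subgroup.subset_closure ⟨z, hz, rfl⟩))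
  · have hle : Q ≤ ((Q.subgroupOf S).comap β.toMonoidHom).map S.subtype := by
      refine (Subgroup.closure_le _).2 ?_
      rintro _ ⟨w, hw, rfl⟩
      refine ⟨⟨w, zc_le S hw⟩ * ⟨w, zc_le S hw⟩, ?_, rfl⟩
      show β (⟨w, zc_le S hw⟩ * ⟨w, zc_le S hw⟩) ∈ Q.subgroupOf S
      rw [map_mul, Subgroup.mem_subgroupOf]
      exact Subgroup.subset_closure ⟨_, map_mem_zc β (x := ⟨w, zc_le S hw⟩) hw, rfl⟩
    obtain ⟨y, hy, hyx⟩ := hle hx
    obtain rfl : y = x := Subtype.ext hyx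
    exact hy
  · obtain ⟨hZE, hES, -, -⟩ := essential_index h hF hE
    refine ⟨hQle.trans hZE, fun α _ x hx => ?_⟩
    obtain ⟨Y, r, hrE, -, hr2, hEeq, hEc, -⟩ := exists_essData h hF hE
    have hsq : ∀ e ∈ E, e * e ∈ Q := by
      intro e he
      obtain ⟨w, hw, n, rfl⟩ := exists_zc_mul (hES hrE) (hEeq.le he)
      have h1 : Commute (r ^ n) w := (mem_zc.1 hw).2 _ (zpow_mem (hES hrE) n)
      have h2 : r ^ n * r ^ n = 1 := by
        rw [← zpow_add, ← two_mul, zpow_mul, zpow_two, ← sq, hr2, one_zpow]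
      have h3 : w * r ^ n * (w * r ^ n) = w * w := by
        rw [mul_assoc, ← mul_assoc (r ^ n), h1.eq, mul_assoc, h2, mul_one]
      rw [h3]
      exact Subgroup.subset_closure ⟨w, hw, rfl⟩
    have hle : Q ≤ ((Q.subgroupOf E).comap α.toMonoidHom).map E.subtype := by
      refine (Subgroup.closure_le _).2 ?_
      rintro _ ⟨w, hw, rfl⟩
      refine ⟨⟨w, hZE hw⟩ * ⟨w, hZE hw⟩, ?_, rfl⟩
      show α (⟨w, hZE hw⟩ * ⟨w, hZE hw⟩) ∈ Q.subgroupOf E
      rw [map_mul, Subgroup.mem_subgroupOf]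
      exact hsq _ (α ⟨w, hZE hw⟩).2
    obtain ⟨y, hy, hyx⟩ := hle hx
    obtain rfl : y = x := Subtype.ext hyx
    exact hy

theorem two_conclusion [Fact (Nat.Prime 2)] (h : SmallCenter 2 S) (hF : F.IsSaturated 2)
    (hcore : F.core = ⊥) (hS1 : S ≠ ⊥) (hhyp : F.hyperfocalSubgroup 2 = S) :
    Cfsg.IsExtraspecial 2 ↥S ∧ Nat.card S = 2 ^ 3 ∧ Nonempty (↥S ≃* DihedralGroup 4) := by
  classical
  have hS := h.pgroup
  have hel : ∀ z ∈ zc S, z * z = 1 := fun z hz => two_zc_elementary h hF hcore hz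
  obtain ⟨E1, hE1⟩ := exists_essential h hF hcore hS1
  obtain ⟨hZE1, hE1S, hiZ, hiE⟩ := essential_index h hF hE1
  obtain ⟨Y1, r1, hr1E, hr1Z, hr1p, hE1eq, hE1c, hY1Z, hRY1, hY1dec, hY1inv, hY1fac, -⟩ :=
    exists_essData h hF hE1
  have hr11 : r1 * r1 = 1 := by rw [← sq]; exact hr1p
  have hE1mem : ∀ x ∈ E1, x ∉ zc S → x * r1 ∈ zc S := by
    intro x hx hxZ
    have hi : ((zc S).subgroupOf E1).index = 2 := hiZ
    exact (Subgroup.mul_mem_iff_of_index_two (a := (⟨x, hx⟩ : E1)) (b := ⟨r1, hr1E⟩) hi).2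
      (iff_of_false hxZ hr1Z)
  have hnc1 : ∀ x ∈ S, x ∉ E1 → x * r1 ≠ r1 * x := by
    intro x hx hxE he
    refine hxE (H87.essential_centric hE1 hx fun e he' => ?_)
    obtain ⟨z, hz, n, rfl⟩ := exists_zc_mul (hE1S hr1E) (hE1eq.le he')
    have h2 : Commute z x := ((mem_zc.1 hz).2 x hx).symm
    have h1 : Commute r1 x := he.symm
    exact (h2.mul_left (h1.zpow_left n)).eq
  -- a second class of involutions
  by_cases hall : ∀ x ∈ S, x ∉ zc S → x * x = 1 → x ∈ E1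
  · exfalso
    have hess : ∀ E, F.IsEssential 2 E → E = E1 := by
      intro E hE
      obtain ⟨Y, r, hrE, hrZ, hrp, hEeq, -⟩ := exists_essData h hF hE
      have hr : r ∈ E1 := hall r (hE.1.1 hrE) hrZ (by rw [← sq]; exact hrp)
      rw [hEeq, ← eq_sup_zpowers h hF hE1 hr hrZ]
    refine false_of_invariant hS hF hcore hE1S (fun hb => hr1Z ?_) (fun β hβ x hx => ?_)
      fun E hE => ⟨(hess E hE).ge, fun α _ x _ => (hess E hE).le (α x).2⟩
    · rw [hb, Subgroup.mem_bot] at hr1E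
      exact hr1E ▸ one_mem _
    · by_cases hxZ : (x : Ω) ∈ zc S
      · exact hZE1 (map_mem_zc β hxZ)
      refine hall _ (β x).2 (fun hb => hxZ ?_) ?_
      · simpa using map_mem_zc β⁻¹ hb
      · have hx1 : x * x = 1 := by
          obtain ⟨z, hz, hxz⟩ : ∃ z ∈ zc S, (x : Ω) = z * r1 :=
            ⟨_, hE1mem x hx hxZ, by rw [mul_assoc, hr11, mul_one]⟩
          refine Subtype.ext ?_
          show (x : Ω) * x = 1
          have h1 : Commute r1 z := (mem_zc.1 hz).2 r1 (hE1S hr1E)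
          rw [hxz, mul_assoc, ← mul_assoc r1, h1.eq, mul_assoc, hr11, mul_one, hel z hz]
        have := congrArg (fun y : S => ((β y : S) : Ω)) hx1
        simpa using this
  push Not at hall
  obtain ⟨r2, hr2S, hr2Z, hr22, hr2E⟩ := hall
  set M2 := zc S ⊔ Subgroup.zpowers r2 with hM2
  have hr1S : r1 ∈ S := hE1S hr1E
  have hcls : ∀ x ∈ S, x ∉ zc S → x * x = 1 → x ∈ E1 ∨ x ∈ M2 := by
    intro x hx hxZ hx2
    by_contra hne
    push Not at hne
    have hi : (E1.subgroupOf S).index = 2 := hiE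
    have he : r2 * x ∈ E1 :=
      (Subgroup.mul_mem_iff_of_index_two (a := (⟨r2, hr2S⟩ : S)) (b := ⟨x, hx⟩) hi).2
        (iff_of_false hr2E hne.1)
    by_cases heZ : r2 * x ∈ zc S
    · refine hne.2 ?_
      have : x = r2 * (r2 * x) := by rw [← mul_assoc, hr22, one_mul]
      rw [this]
      exact mul_mem (Subgroup.mem_sup_right (Subgroup.mem_zpowers r2)) (Subgroup.mem_sup_left heZ)
    set w := r2 * x * r1 with hw
    have hwZ : w ∈ zc S := hE1mem _ he heZ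
    have hxeq : x = r2 * r1 * w := by
      have h1 : Commute r1 w := (mem_zc.1 hwZ).2 r1 hr1S
      rw [mul_assoc, h1.eq, hw, mul_assoc (r2 * x), hr11, mul_one, ← mul_assoc, hr22, one_mul]
    refine hnc1 r2 hr2S hr2E ?_
    have h1 : Commute w (r2 * r1) := ((mem_zc.1 hwZ).2 _ (S.mul_mem hr2S hr1S)).symm
    rw [hxeq, h1.mul_mul_mul_comm, hel w hwZ, mul_one] at hx2
    rw [mul_eq_one_iff_eq_inv, mul_inv_rev, inv_eq_of_mul_eq_one_right hr11,
      inv_eq_of_mul_eq_one_right hr22] at hx2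
    exact hx2
  have hfixM : ∀ β ∈ F.autGroup S, ∀ x : S, (x : Ω) ∈ E1 → ((β x : S) : Ω) ∈ E1 := by
    -- the automorphism maps `r1` into `E1` or `M2`
    intro β hβ
    have hgen : ∀ γ : MulAut S, ((γ ⟨r1, hr1S⟩ : S) : Ω) ∈ E1 →
        ∀ x : S, (x : Ω) ∈ E1 → ((γ x : S) : Ω) ∈ E1 := by
      intro γ hγ x hx
      obtain ⟨z, hz, n, hxzn⟩ := exists_zc_mul hr1S (hE1eq.le hx)
      have : x = ⟨z, zc_le S hz⟩ * (⟨r1, hr1S⟩ : S) ^ n := Subtype.ext hxzn
      rw [this, map_mul, map_zpow, Subgroup.coe_mul, SubgroupClass.coe_zpow]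
      exact E1.mul_mem (hZE1 (map_mem_zc γ (x := ⟨z, zc_le S hz⟩) hz)) (E1.zpow_mem hγ n)
    have himage : ∀ (γ : MulAut S) (y : S), (y : Ω) ∉ zc S → y * y = 1 →
        ((γ y : S) : Ω) ∉ zc S ∧ (((γ y : S) : Ω) ∈ E1 ∨ ((γ y : S) : Ω) ∈ M2) := by
      intro γ y hy hy2
      have h1 : ((γ y : S) : Ω) ∉ zc S := fun hb => hy (by simpa using map_mem_zc γ⁻¹ hb)
      refine ⟨h1, hcls _ (γ y).2 h1 ?_⟩
      have := congrArg (fun w : S => ((γ w : S) : Ω)) hy2
      simpa using this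
    set a : S := ⟨r1, hr1S⟩
    set b : S := ⟨r2, hr2S⟩
    have ha2 : a * a = 1 := Subtype.ext hr11
    have hb2 : b * b = 1 := Subtype.ext hr22
    refine hgen β ?_
    rcases (himage β a hr1Z ha2).2 with hA | hA
    · exact hA
    exfalso
    -- `β` sends `r1` to the class of `r2`, so `β²` fixes the class of `r1`
    have hM2mem : ∀ y ∈ M2, y ∉ zc S → ∃ z ∈ zc S, y = z * r2 := by
      intro y hy hyZ
      obtain ⟨z, hz, n, rfl⟩ := exists_zc_mul hr2S hy
      rcases Int.even_or_odd n with ⟨k, rfl⟩ | ⟨k, rfl⟩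
      · exfalso
        refine hyZ ?_
        rw [zpow_add, ← (Commute.refl r2).mul_zpow, hr22, one_zpow, mul_one]
        exact hz
      · refine ⟨z, hz, ?_⟩
        rw [zpow_add, zpow_mul, zpow_two, hr22, one_zpow, one_mul, zpow_one]
    obtain ⟨z, hz, hzeq⟩ := hM2mem _ hA (himage β a hr1Z ha2).1
    have hb1 : ((β b : S) : Ω) ∈ E1 := by
      rcases (himage β b hr2Z hb2).2 with hB | hB
      · exact hB
      exfalso
      obtain ⟨z', hz', hz'eq⟩ := hM2mem _ hB (himage β b hr2Z hb2).1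
      refine hnc1 r2 hr2S hr2E ?_
      have hcom : β b * β a = β a * β b := by
        refine Subtype.ext ?_
        show ((β b : S) : Ω) * (β a : S) = (β a : S) * (β b : S)
        rw [hzeq, hz'eq]
        have e1 : Commute z r2 := ((mem_zc.1 hz).2 r2 hr2S).symm
        have e2 : Commute z' r2 := ((mem_zc.1 hz').2 r2 hr2S).symm
        have e3 : Commute z' z := (mem_zc.1 hz).2 z' (zc_le S hz')
        exact (e3.mul_right e2).mul_left ((e1.symm).mul_right (Commute.refl r2))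
      rw [← map_mul, ← map_mul] at hcom
      exact congrArg Subtype.val (β.injective hcom)
    have hsq : ((((β ^ 2) a : S)) : Ω) ∈ E1 := by
      rw [sq, MulAut.mul_apply]
      have : β a = ⟨z, zc_le S hz⟩ * b := Subtype.ext hzeq
      rw [this, map_mul, Subgroup.coe_mul]
      exact E1.mul_mem (hZE1 (map_mem_zc β (x := ⟨z, zc_le S hz⟩) hz)) hb1
    obtain ⟨m, hm, hmI⟩ := exists_pow_inner hS hF hβ
    have hm' : ((((β ^ m) a : S)) : Ω) ∈ E1 := by
      have h1 : (r1⁻¹ * (((β ^ m) a : S) : Ω)) ∈ E1 := hZE1 (h.comm_le (induced_mod hmI a))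
      exact (Subgroup.mul_mem_cancel_left _ (E1.inv_mem hr1E)).1 h1
    obtain ⟨k, rfl⟩ : Odd m := Nat.coprime_two_right.1 hm
    haveI : Finite E1 := H85.finite_of_le hE1S
    have hpow : ∀ k : ℕ, ∀ x : S, (x : Ω) ∈ E1 → ((((β ^ 2) ^ k) x : S) : Ω) ∈ E1 := by
      intro k
      induction k with
      | zero => intro x hx; simpa using hx
      | succ k ih =>
        intro x hx
        rw [pow_succ, MulAut.mul_apply]
        exact ih _ (hgen (β ^ 2) hsq x hx)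
    -- `β^(2k) (β a) ∈ E1` forces `β a ∈ E1`
    haveI : Finite (MulAut S) := Finite.of_injective _ DFunLike.coe_injective
    have h2 : ((β a : S) : Ω) ∈ E1 := by
      have hid : ((β ^ 2) ^ k) ^ (orderOf ((β ^ 2) ^ k) - 1) * ((β ^ 2) ^ k) = 1 := by
        rw [← pow_succ, Nat.sub_add_cancel (orderOf_pos _), pow_orderOf_eq_one]
      have h4 := hpow (k * (orderOf ((β ^ 2) ^ k) - 1)) ((β ^ (2 * k + 1)) a) hm'
      have e : (β ^ 2) ^ (k * (orderOf ((β ^ 2) ^ k) - 1)) * β ^ (2 * k + 1) = β := by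
        rw [pow_mul (β ^ 2), pow_succ β (2 * k), pow_mul β 2 k, ← mul_assoc, hid, one_mul]
      rw [← MulAut.mul_apply, e] at h4
      exact h4
    refine hr2E ?_
    rw [hzeq] at h2
    exact (Subgroup.mul_mem_cancel_left _ (hZE1 hz)).1 h2
  -- the second essential subgroup
  obtain ⟨E2, hE2, hE2ne⟩ : ∃ E, F.IsEssential 2 E ∧ E ≠ E1 := by
    by_contra hne
    push Not at hne
    refine false_of_invariant hS hF hcore hE1S (fun hb => hr1Z ?_) hfixM
      fun E hE => ⟨(hne E hE).ge, fun α _ x _ => (hne E hE).le (α x).2⟩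
    rw [hb, Subgroup.mem_bot] at hr1E
    exact hr1E ▸ one_mem _
  obtain ⟨Y2, r, hrE, hrZ, hrp, hE2eq, hE2c, hY2Z, hRY2, hY2dec, hY2inv, hY2fac, -⟩ :=
    exists_essData h hF hE2
  obtain ⟨hZE2, hE2S, hiZ2, -⟩ := essential_index h hF hE2
  have hrS : r ∈ S := hE2S hrE
  have hrr : r * r = 1 := by rw [← sq]; exact hrp
  have hrE1 : r ∉ E1 := fun hr => hE2ne (by rw [hE2eq, ← eq_sup_zpowers h hF hE1 hr hrZ])
  have hess : ∀ E, F.IsEssential 2 E → E = E1 ∨ E = E2 := by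
    intro E hE
    obtain ⟨Y, r', hr'E, hr'Z, hr'p, hEeq, -⟩ := exists_essData h hF hE
    have hr'2 : r' * r' = 1 := by rw [← sq]; exact hr'p
    rcases hcls r' (hE.1.1 hr'E) hr'Z hr'2 with h1 | h1
    · exact Or.inl (by rw [hEeq, ← eq_sup_zpowers h hF hE1 h1 hr'Z])
    · refine Or.inr ?_
      have hr2' : r ∈ M2 := (hcls r hrS hrZ hrr).resolve_left hrE1
      have hM : ∀ {y : Ω}, y ∈ M2 → y ∉ zc S → zc S ⊔ Subgroup.zpowers y = M2 := by
        intro y hy hyZ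
        refine le_antisymm (sup_le le_sup_left (Subgroup.zpowers_le.2 hy))
          (sup_le le_sup_left (Subgroup.zpowers_le.2 ?_))
        obtain ⟨z, hz, n, rfl⟩ := exists_zc_mul hr2S hy
        rcases Int.even_or_odd n with ⟨k, rfl⟩ | ⟨k, rfl⟩
        · exfalso
          refine hyZ ?_
          rw [zpow_add, ← (Commute.refl r2).mul_zpow, hr22, one_zpow, mul_one]
          exact hz
        · have e : r2 = z⁻¹ * (z * r2 ^ (2 * k + 1)) := by
            rw [inv_mul_cancel_left, zpow_add, zpow_mul, zpow_two, hr22, one_zpow, one_mul,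
              zpow_one]
          have h5 : z⁻¹ * (z * r2 ^ (2 * k + 1)) ∈
              zc S ⊔ Subgroup.zpowers (z * r2 ^ (2 * k + 1)) :=
            mul_mem (Subgroup.mem_sup_left ((zc S).inv_mem hz))
              (Subgroup.mem_sup_right (Subgroup.mem_zpowers _))
          rwa [← e] at h5
      rw [hEeq, hE2eq, hM h1 hr'Z, hM hr2' hrZ]
  have hfix1 := hfixM
  have hfix2 : ∀ β ∈ F.autGroup S, ∀ x : S, (x : Ω) ∈ E2 → ((β x : S) : Ω) ∈ E2 := by
    intro β hβ x hx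
    by_cases hxZ : (x : Ω) ∈ zc S
    · exact hZE2 (map_mem_zc β hxZ)
    have hβr : ((β ⟨r, hrS⟩ : S) : Ω) ∈ E2 := by
      have hn : ((β ⟨r, hrS⟩ : S) : Ω) ∉ zc S := fun hb => hrZ (by simpa using map_mem_zc β⁻¹ hb)
      have hn1 : ((β ⟨r, hrS⟩ : S) : Ω) ∉ E1 := fun hb => hrE1 (by
        have := hfix1 β⁻¹ ((F.autGroup S).inv_mem hβ) _ hb
        simpa using this)
      have h2 : ((β ⟨r, hrS⟩ : S) : Ω) * (β ⟨r, hrS⟩ : S) = 1 := by
        rw [← Subgroup.coe_mul, ← map_mul, show (⟨r, hrS⟩ : S) * ⟨r, hrS⟩ = 1 from Subtype.ext hrr,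
          map_one]
        rfl
      have h3 := (hcls _ (β ⟨r, hrS⟩).2 hn h2).resolve_left hn1
      have h4 := (hcls r hrS hrZ hrr).resolve_left hrE1
      obtain ⟨z, hz, n, hzn⟩ := exists_zc_mul hr2S h3
      obtain ⟨z', hz', n', hzn'⟩ := exists_zc_mul hr2S h4
      have hr2E2 : r2 ∈ E2 := by
        rcases Int.even_or_odd n' with ⟨k, rfl⟩ | ⟨k, rfl⟩
        · exfalso
          refine hrZ ?_
          rw [hzn', zpow_add, ← (Commute.refl r2).mul_zpow, hr22, one_zpow, mul_one]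
          exact hz'
        · rw [zpow_add, zpow_mul, zpow_two, hr22, one_zpow, one_mul, zpow_one] at hzn'
          have e : r2 = z'⁻¹ * r := by rw [hzn', inv_mul_cancel_left]
          rw [e]
          exact mul_mem (hZE2 ((zc S).inv_mem hz')) hrE
      rw [hzn]
      exact mul_mem (hZE2 hz) (zpow_mem hr2E2 n)
    obtain ⟨z, hz, n, hxzn⟩ := exists_zc_mul hrS (hE2eq.le hx)
    have : x = ⟨z, zc_le S hz⟩ * (⟨r, hrS⟩ : S) ^ n := Subtype.ext hxzn
    rw [this, map_mul, map_zpow, Subgroup.coe_mul, SubgroupClass.coe_zpow]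
    exact E2.mul_mem (hZE2 (map_mem_zc β (x := ⟨z, zc_le S hz⟩) hz)) (E2.zpow_mem hβr n)
  -- `β` preserves both `Yᵢ`
  have hYtop : ∀ {E Y : Subgroup Ω}, E ≤ S → zc S ≤ E → Y ≤ zc S →
      (∀ β ∈ F.autGroup S, ∀ x : S, (x : Ω) ∈ E → ((β x : S) : Ω) ∈ E) →
      (∀ α ∈ F.autGroup E, ∀ x : E, (x : Ω) ∈ Y → ((α x : E) : Ω) ∈ Y) →
      ∀ β ∈ F.autGroup S, ∀ x : S, (x : Ω) ∈ Y → ((β x : S) : Ω) ∈ Y := by
    intro E Y hES hZE hYZ hfx hinv β hβ x hx
    obtain ⟨α, hα, hαβ⟩ := restrict_aut hES hβ (hfx β hβ)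
    have h1 := hinv α hα ⟨x, hZE (hYZ hx)⟩ hx
    rw [hαβ] at h1
    exact h1
  have hY1top := hYtop hE1S hZE1 hY1Z hfix1 hY1inv
  have hY2top := hYtop hE2S hZE2 hY2Z hfix2 hY2inv
  have hN : Y1 ⊓ Y2 = ⊥ := by
    by_contra hne
    refine false_of_invariant hS hF hcore ((inf_le_left.trans hY1Z).trans (zc_le S)) hne
      (fun β hβ x hx => ⟨hY1top β hβ x hx.1, hY2top β hβ x hx.2⟩) fun E hE => ?_
    rcases hess E hE with rfl | rfl
    · refine ⟨(inf_le_left.trans hY1Z).trans hZE1, fun α hα x hx => ?_⟩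
      obtain ⟨β, hβ, hαβ⟩ := hY1fac α hα
      rw [← (hαβ x (hE1S x.2)).1 hx.1]
      exact ⟨hY1top β hβ _ hx.1, hY2top β hβ _ hx.2⟩
    · refine ⟨(inf_le_left.trans hY1Z).trans hZE2, fun α hα x hx => ?_⟩
      obtain ⟨β, hβ, hαβ⟩ := hY2fac α hα
      rw [← (hαβ x (hE2S x.2)).1 hx.2]
      exact ⟨hY1top β hβ _ hx.1, hY2top β hβ _ hx.2⟩
  haveI : Finite ↥⁅S, S⁆ := H85.finite_of_le (h.comm_le.trans (zc_le S))
  have hRone : ∀ {a b : Ω}, a ∈ ⁅S, S⁆ → b ∈ ⁅S, S⁆ → a ≠ 1 → b ≠ 1 → a = b := by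
    intro a b ha hb ha1 hb1
    exact congrArg Subtype.val (eq_of_rel_two h.comm_card (x := (⟨a, ha⟩ : ↥⁅S, S⁆))
      (y := ⟨b, hb⟩) (fun e => ha1 (congrArg Subtype.val e)) fun e => hb1 (congrArg Subtype.val e))
  -- every automorphism of `S` is inner
  have hauto : ∀ β ∈ F.autGroup S, β ∈ autInducedBy S S := by
    intro β hβ
    have hY1fix : ∀ x : S, (x : Ω) ∈ Y1 → β x = x := by
      intro x hx
      by_cases hx1 : x = 1
      · rw [hx1, map_one]
      have hβ1 : β x ≠ 1 := fun e => hx1 (β.injective (e.trans (map_one β).symm))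
      obtain ⟨u, hu, ρ, hρ, hxe⟩ := hY2dec x (hY1Z hx)
      obtain ⟨u', hu', ρ', hρ', hxe'⟩ := hY2dec _ (hY1Z (hY1top β hβ x hx))
      have hne : ∀ {v w σ : Ω}, v ∈ Y1 → v ≠ 1 → w ∈ Y2 → v = w * σ → σ ≠ 1 := by
        intro v w σ hv hv1 hw he hσ
        rw [hσ, mul_one] at he
        have : v ∈ Y1 ⊓ Y2 := ⟨hv, he ▸ hw⟩
        rw [hN, Subgroup.mem_bot] at this
        exact hv1 this
      have hρ1 := hne hx (fun e => hx1 (Subtype.ext e)) hu hxe
      have hρ2 := hne (hY1top β hβ x hx) (fun e => hβ1 (Subtype.ext e)) hu' hxe'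
      have hdiv : (x : Ω) * ((β x : S) : Ω)⁻¹ ∈ Y1 ⊓ Y2 := by
        refine ⟨Y1.mul_mem hx (Y1.inv_mem (hY1top β hβ x hx)), ?_⟩
        rw [hxe, hxe', hRone hρ hρ' hρ1 hρ2, mul_inv_rev, mul_assoc u, mul_inv_cancel_left]
        exact Y2.mul_mem hu (Y2.inv_mem hu')
      rw [hN, Subgroup.mem_bot, mul_inv_eq_one] at hdiv
      exact Subtype.ext hdiv.symm
    have hRfix : ∀ x : S, (x : Ω) ∈ ⁅S, S⁆ → β x = x := by
      intro x hx
      by_cases hx1 : x = 1
      · rw [hx1, map_one]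
      exact Subtype.ext (hRone (map_mem_comm β hx) hx
        (fun e => hx1 (β.injective ((Subtype.ext e : β x = 1).trans (map_one β).symm)))
        fun e => hx1 (Subtype.ext e))
    have hZfix : ∀ x : S, (x : Ω) ∈ zc S → β x = x := by
      intro x hx
      obtain ⟨y, hy, ρ, hρ, hxe⟩ := hY1dec x hx
      have : x = ⟨y, zc_le S (hY1Z hy)⟩ * ⟨ρ, zc_le S (h.comm_le hρ)⟩ := Subtype.ext hxe
      rw [this, map_mul, hY1fix _ hy, hRfix _ hρ]
    -- `β²` fixes generators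
    have hsqgen : ∀ {E : Subgroup Ω} {s : Ω}, zc S ≤ E → (zc S).relIndex E = 2 →
        (∀ x : S, (x : Ω) ∈ E → ((β x : S) : Ω) ∈ E) → s ∈ E → s ∉ zc S → ∀ hsS : s ∈ S,
        (β ^ 2) ⟨s, hsS⟩ = ⟨s, hsS⟩ := by
      intro E s hZE hi hfx hsE hsZ hsS
      set y : S := ⟨s, hsS⟩ with hy
      have hn : ((β y : S) : Ω) ∉ zc S := fun hb => hsZ (by simpa using map_mem_zc β⁻¹ hb)
      have hi' : ((zc S).subgroupOf E).index = 2 := hi
      have h1 : ((β y : S) : Ω) * s⁻¹ ∈ zc S :=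
        (Subgroup.mul_mem_iff_of_index_two (a := (⟨_, hfx y hsE⟩ : E)) (b := (⟨s, hsE⟩ : E)⁻¹) hi').2
          (iff_of_false hn fun hb => hsZ ((Subgroup.inv_mem_iff (x := (⟨s, hsE⟩ : E)) _).1 hb))
      set w : S := β y * y⁻¹ with hwdef
      have hw : (w : Ω) ∈ zc S := h1
      have hw1 : β y = w * y := by rw [hwdef, inv_mul_cancel_right]
      rw [sq, MulAut.mul_apply, hw1, map_mul, hZfix w hw, hw1, ← mul_assoc,
        show w * w = 1 from Subtype.ext (hel w hw), one_mul]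
    have hβ2 : β ^ 2 = 1 := by
      refine MulEquiv.ext fun x => ?_
      rw [MulAut.one_apply]
      have hx : (x : Ω) ∈ E1 ⊔ Subgroup.zpowers r := (eq_sup_of_index hE1S hiE hrS hrE1).le x.2
      have hle : E1 ⊔ Subgroup.zpowers r ≤
          ({ carrier := {y | ∃ hy : y ∈ S, (β ^ 2) ⟨y, hy⟩ = ⟨y, hy⟩}
             one_mem' := ⟨S.one_mem, map_one _⟩
             mul_mem' := fun {a b} ⟨ha, ha'⟩ ⟨hb, hb'⟩ => ⟨S.mul_mem ha hb,
               (map_mul (β ^ 2) (⟨a, ha⟩ : S) ⟨b, hb⟩).trans (by rw [ha', hb']; rfl)⟩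
             inv_mem' := fun {a} ⟨ha, ha'⟩ => ⟨S.inv_mem ha,
               (map_inv (β ^ 2) (⟨a, ha⟩ : S)).trans (by rw [ha']; rfl)⟩ } : Subgroup Ω) := by
        refine sup_le ?_ (Subgroup.zpowers_le.2 ⟨hrS, hsqgen hZE2 hiZ2 (hfix2 β hβ) hrE hrZ hrS⟩)
        rw [hE1eq]
        refine sup_le (fun z hz => ⟨zc_le S hz, ?_⟩)
          (Subgroup.zpowers_le.2 ⟨hr1S, hsqgen hZE1 hiZ (hfix1 β hβ) hr1E hr1Z hr1S⟩)
        rw [sq, MulAut.mul_apply, hZfix ⟨z, zc_le S hz⟩ hz, hZfix ⟨z, zc_le S hz⟩ hz]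
      obtain ⟨hxS, hxe⟩ := hle hx
      exact hxe
    obtain ⟨m, hm, hmI⟩ := exists_pow_inner hS hF hβ
    exact mem_of_coprime_pow hm hmI (by rw [hβ2]; exact Subgroup.one_mem _)
  -- the hyperfocal subgroup
  set K : Subgroup Ω := ⁅S, S⁆ ⊔ Subgroup.zpowers r1 ⊔ Subgroup.zpowers r with hK
  have hRK : ⁅S, S⁆ ≤ K := le_sup_left.trans le_sup_left
  have hle : F ≤ H85.shiftSystem F K hRK := by
    refine H85.le_of_essential hS hF _ ?_
    rintro P (rfl | hP)
    · intro β hβ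
      exact (H85.mem_autGroup le_rfl).2 ⟨(H85.mem_autGroup le_rfl).1 hβ,
        fun x => hRK (induced_mod (hauto β hβ) x)⟩
    · intro α hα
      refine (H85.mem_autGroup hP.1.1).2 ⟨(H85.mem_autGroup hP.1.1).1 hα, fun x => ?_⟩
      show (x : Ω)⁻¹ * ((α x : P) : Ω) ∈ K
      obtain ⟨β, hβ, s, hsK, hαβ⟩ : ∃ β ∈ F.autGroup S, ∃ s : Ω, ⁅S, S⁆ ⊔ Subgroup.zpowers s ≤ K ∧
          ∀ (x : P) (hx : (x : Ω) ∈ S),
            ((α x : P) : Ω)⁻¹ * ((β ⟨x, hx⟩ : S) : Ω) ∈ ⁅S, S⁆ ⊔ Subgroup.zpowers s := by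
        rcases hess P hP with rfl | rfl
        · obtain ⟨β, hβ, hαβ⟩ := hY1fac α hα
          exact ⟨β, hβ, r1, le_sup_left, fun x hx => (hαβ x hx).2⟩
        · obtain ⟨β, hβ, hαβ⟩ := hY2fac α hα
          exact ⟨β, hβ, r, sup_le hRK le_sup_right, fun x hx => (hαβ x hx).2⟩
      have e : (x : Ω)⁻¹ * ((α x : P) : Ω) = (x : Ω)⁻¹ * ((β ⟨x, hP.1.1 x.2⟩ : S) : Ω) *
          (((α x : P) : Ω)⁻¹ * ((β ⟨x, hP.1.1 x.2⟩ : S) : Ω))⁻¹ := by group
      rw [e]
      exact K.mul_mem (hRK (induced_mod (hauto β hβ) ⟨x, hP.1.1 x.2⟩))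
        (K.inv_mem (hsK (hαβ x _)))
  have hSK : S ≤ K := by
    rw [← hhyp, hyperfocalSubgroup, Subgroup.closure_le]
    rintro _ ⟨P, α, x, hP, -, rfl⟩
    exact (hle P ((H85.mem_autGroup hP).1 α.2)).2 x
  set a : S := ⟨r1, hr1S⟩ with ha
  set b : S := ⟨r, hrS⟩ with hb
  have ha0 : orderOf a = 2 := orderOf_eq_prime (by rw [sq]; exact Subtype.ext hr11)
    fun e => hr1Z (by rw [show r1 = 1 from congrArg Subtype.val e]; exact one_mem _)
  have hb0 : orderOf b = 2 := orderOf_eq_prime (by rw [sq]; exact Subtype.ext hrr)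
    fun e => hrZ (by rw [show r = 1 from congrArg Subtype.val e]; exact one_mem _)
  have hncab : a * b ≠ b * a := fun e => hnc1 r hrS hrE1 (congrArg Subtype.val e).symm
  set c : S := (a * b) ^ 2 with hc
  have ha1 : a⁻¹ = a := inv_eq_of_mul_eq_one_right (by rw [← sq, ← ha0]; exact pow_orderOf_eq_one a)
  have hb1 : b⁻¹ = b := inv_eq_of_mul_eq_one_right (by rw [← sq, ← hb0]; exact pow_orderOf_eq_one b)
  have hcc : c = ⁅a, b⁆ := by rw [hc, sq, commutatorElement_def, ha1, hb1, mul_assoc, mul_assoc, mul_assoc]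
  have hcR : (c : Ω) ∈ ⁅S, S⁆ := by
    rw [hcc]
    exact Subgroup.commutator_mem_commutator a.2 b.2
  have hc1 : c ≠ 1 := by rw [hcc]; exact fun e => hncab (commutatorElement_eq_one_iff_mul_comm.1 e)
  have hord : orderOf (a * b) = 4 := by
    have h4 : (a * b) ^ 4 = 1 := by
      rw [show 4 = 2 * 2 from rfl, pow_mul, ← hc]
      have := pow_card_eq_one' (G := ↥⁅S, S⁆) (x := ⟨c, hcR⟩)
      rw [h.comm_card] at this
      exact Subtype.ext (congrArg Subtype.val this :)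
    exact orderOf_eq_prime_pow (p := 2) (n := 1) (by rw [pow_one, ← hc]; exact hc1)
      (by norm_num; exact h4)
  have hclo : Subgroup.closure ({a, b} : Set S) = ⊤ := by
    set D := Subgroup.closure ({a, b} : Set S) with hD
    have haD : a ∈ D := Subgroup.subset_closure (Or.inl rfl)
    have hbD : b ∈ D := Subgroup.subset_closure (Or.inr rfl)
    have hKD : K ≤ D.map S.subtype := by
      refine sup_le (sup_le (fun x hx => ?_) (Subgroup.zpowers_le.2 ⟨a, haD, rfl⟩))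
        (Subgroup.zpowers_le.2 ⟨b, hbD, rfl⟩)
      by_cases hx1 : x = 1
      · rw [hx1]; exact one_mem _
      · refine ⟨c, by rw [hc]; exact pow_mem (mul_mem haD hbD) 2, ?_⟩
        exact hRone hcR hx (fun e => hc1 (Subtype.ext e)) hx1
    refine eq_top_iff.2 fun x _ => ?_
    exact (Subgroup.mem_map_iff_mem S.subtype_injective).1 (hKD (hSK x.2))
  have hab : a ≠ b := fun e => hncab (by rw [e])
  obtain ⟨e⟩ := H65.nonempty_mulEquiv_dihedral ha0 hb0 hab
  rw [hord] at e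
  let e' : ↥S ≃* DihedralGroup 4 :=
    (Subgroup.topEquiv.symm.trans (MulEquiv.subgroupCongr hclo.symm)).trans e
  have hcard : Nat.card S = 2 ^ 3 := by
    rw [Nat.card_congr e'.toEquiv, DihedralGroup.nat_card]; norm_num
  exact ⟨H79.extraspecial_of_card_cube hcard hncab, hcard, ⟨e'⟩⟩

end H75.SmallIndex
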